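import Mathlib
import Cfsg.Agent.SL2Pres.Exist

/-!
# Steinberg relations from a short presentation of `SL₃(q)`

A `Frame` records what the eleven basic relations give: root elements `Xf`, the torus element `h`,
the Weyl element `w`, the 3-cycle `c`. The second torus element is `x = c h⁻¹ c⁻¹`.
-/

set_option autoImplicit false

namespace CfsgLib.SL3Pres

variable {G F : Type*} [Group G] [Field F]

/-- `g` scales the root elements `f` by `a`. -/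
def Sc (g : G) (f : F → G) (a : Fˣ) : Prop := ∀ t, g * f t * g⁻¹ = f ((a : F) * t)

theorem Sc.one (f : F → G) : Sc 1 f 1 := fun t => by simp

theorem Sc.mul {g g' : G} {f : F → G} {a a' : Fˣ} (h : Sc g f a) (h' : Sc g' f a') :
    Sc (g * g') f (a * a') := fun t => by
  rw [Units.val_mul, mul_assoc (a : F), ← h, ← h']; group

theorem Sc.inv {g : G} {f : F → G} {a : Fˣ} (h : Sc g f a) : Sc g⁻¹ f a⁻¹ := fun t => by
  have := h ((a⁻¹ : Fˣ) * t)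
  rw [← mul_assoc, Units.mul_inv, one_mul] at this
  conv_lhs => rw [← this]
  group

theorem Sc.pow {g : G} {f : F → G} {a : Fˣ} (h : Sc g f a) : ∀ n : ℕ, Sc (g ^ n) f (a ^ n)
  | 0 => by simpa using Sc.one f
  | n + 1 => by rw [pow_succ, pow_succ]; exact (h.pow n).mul h

theorem Sc.conj {g : G} {f : F → G} {a : Fˣ} (e : G) (h : Sc g f a) :
    Sc (e * g * e⁻¹) (fun t => e * f t * e⁻¹) a := fun t => by
  show _ = e * f ((a : F) * t) * e⁻¹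
  rw [← h t]; group

/-- What the basic relations give. -/
structure Frame (G F : Type*) [Group G] [Field F] where
  Xf : F → G
  h : G
  w : G
  c : G
  ω : Fˣ
  k : ℕ
  hadd : ∀ s t, Xf (s + t) = Xf s * Xf t
  hx : Sc (c * h⁻¹ * c⁻¹) Xf ω
  hh : Sc h Xf (ω ^ 2)
  hwX1 : w * Xf 1 * w⁻¹ = Xf (-1) * w * Xf (-1)
  hwh : w * h * w⁻¹ = h⁻¹
  hww : w * w = h ^ k
  hc3 : c ^ 3 = 1
  hhc : (h * c) ^ 3 = 1
  hcomm : Commute h (c * h * c⁻¹)
  hwcw : w * c * w⁻¹ = h ^ k * c⁻¹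
  hωk : ω ^ k = -1
  hgenω : ∀ t : F, t ≠ 0 → ∃ n : ℕ, t = (ω : F) ^ n
  hgen : Subgroup.closure (Set.range Xf ∪ {h, w, c}) = ⊤

namespace Frame

variable (D : Frame G F)

/-- The second torus element. -/
def x : G := D.c * D.h⁻¹ * D.c⁻¹

/-- The root elements at `(2, 3)`. -/
def v (t : F) : G := D.c * D.Xf t * D.c⁻¹

/-- The root elements at `(1, 3)`. -/
def z (t : F) : G := D.w * D.v t * D.w⁻¹

theorem xc : Commute D.x D.h := by
  have : D.x = (D.c * D.h * D.c⁻¹)⁻¹ := by simp only [x]; group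
  rw [this]
  exact D.hcomm.symm.inv_left

theorem hx' : Sc D.x D.Xf D.ω := D.hx

theorem cinv : D.c⁻¹ = D.c * D.c := by
  apply inv_eq_of_mul_eq_one_right
  rw [← mul_assoc, ← pow_three']; exact D.hc3

theorem conj_c_x : D.c * D.x * D.c⁻¹ = D.h * D.x⁻¹ := by
  have h1 := D.hhc
  rw [pow_three'] at h1
  have h2 : D.h * (D.c * D.h * D.c⁻¹) * (D.c * D.c * D.h * (D.c * D.c)⁻¹) = 1 := by
    calc _ = D.h * D.c * (D.h * D.c) * (D.h * D.c) * (D.c ^ 3)⁻¹ := by rw [pow_three']; group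
      _ = 1 := by rw [D.hc3, h1, inv_one, mul_one]
  have hx' : D.c * D.h * D.c⁻¹ = D.x⁻¹ := by simp only [x]; group
  rw [hx'] at h2
  rw [eq_inv_of_mul_eq_one_left h2]
  simp only [x, mul_inv_rev, inv_inv, mul_assoc]

theorem cinv_h : D.c⁻¹ * D.h * D.c = D.x * D.h⁻¹ := by
  have : D.x * D.h⁻¹ = (D.h * D.x⁻¹)⁻¹ := by group
  rw [this, ← D.conj_c_x]
  have e := D.cinv
  calc D.c⁻¹ * D.h * D.c = (D.c * D.c) * D.h * (D.c * D.c)⁻¹ := by
        rw [← e, inv_inv]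
    _ = (D.c * D.x * D.c⁻¹)⁻¹ := by simp only [x, mul_inv_rev, inv_inv, mul_assoc]

theorem cinv_x : D.c⁻¹ * D.x * D.c = D.h⁻¹ := by simp only [x]; group

theorem w_x : D.w * D.x * D.w⁻¹ = D.x * D.h⁻¹ := by
  have e : D.w * D.x * D.w⁻¹ = (D.w * D.c * D.w⁻¹) * (D.w * D.h * D.w⁻¹)⁻¹ * (D.w * D.c * D.w⁻¹)⁻¹ := by
    simp only [x]; group
  rw [e, D.hwcw, D.hwh, inv_inv]
  calc D.h ^ D.k * D.c⁻¹ * D.h * (D.h ^ D.k * D.c⁻¹)⁻¹
      = D.h ^ D.k * (D.c⁻¹ * D.h * D.c) * (D.h ^ D.k)⁻¹ := by group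
    _ = D.x * D.h⁻¹ := by
      rw [D.cinv_h, mul_inv_eq_iff_eq_mul]
      exact ((D.xc.symm.pow_left D.k).mul_right ((Commute.refl D.h).pow_left D.k).inv_right).eq

variable [Fintype F]

theorem ω_pow_card : D.ω ^ (Fintype.card F - 1) = 1 :=
  Units.ext (by rw [Units.val_pow_eq_pow_val, Units.val_one]; exact FiniteField.pow_card_sub_one_eq_one _ D.ω.ne_zero)

theorem ω_pow_two_k : D.ω ^ (2 * D.k) = 1 := by
  rw [mul_comm, pow_mul, D.hωk, neg_one_sq]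

theorem Xf_zero : D.Xf 0 = 1 := by simpa using D.hadd 0 0

theorem Xf_neg (t : F) : D.Xf (-t) = (D.Xf t)⁻¹ := by
  apply eq_inv_of_mul_eq_one_left
  rw [← D.hadd, neg_add_cancel, D.Xf_zero]

theorem Xf_comm (s t : F) : Commute (D.Xf s) (D.Xf t) := by
  rw [Commute, SemiconjBy, ← D.hadd, ← D.hadd, add_comm]

theorem h_pow_card : D.h ^ (Fintype.card F - 1) = 1 := by
  set N := Fintype.card F - 1
  set K := D.w * D.x ^ N * D.w⁻¹ with hK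
  have hKX : Sc K D.Xf 1 := by
    rw [hK, ← conj_pow, D.w_x]
    have := ((Sc.mul D.hx D.hh.inv).pow N)
    rwa [mul_pow, inv_pow, ← pow_mul, mul_comm 2 N, pow_mul, D.ω_pow_card, one_pow, inv_one, mul_one] at this
  have hxN : Sc (D.x ^ N) D.Xf 1 := by
    have := Sc.pow D.hx N
    rwa [D.ω_pow_card] at this
  have e1 : K * (D.w * D.Xf 1 * D.w⁻¹) * K⁻¹ = D.w * D.Xf 1 * D.w⁻¹ := by
    have e : K * (D.w * D.Xf 1 * D.w⁻¹) * K⁻¹ = D.w * (D.x ^ N * D.Xf 1 * (D.x ^ N)⁻¹) * D.w⁻¹ := by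
      rw [hK]; group
    rw [e, hxN, Units.val_one, one_mul]
  rw [D.hwX1, show K * (D.Xf (-1) * D.w * D.Xf (-1)) * K⁻¹ =
    (K * D.Xf (-1) * K⁻¹) * (K * D.w * K⁻¹) * (K * D.Xf (-1) * K⁻¹) by group, hKX, Units.val_one, one_mul] at e1
  have e2 : K * D.w * K⁻¹ = D.w := mul_left_cancel (mul_right_cancel e1)
  have e3 : D.w * K * D.w⁻¹ = K := by
    rw [mul_inv_eq_iff_eq_mul] at e2 ⊢
    exact e2.symm
  have e4 : D.w * K * D.w⁻¹ = D.x ^ N := by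
    rw [hK, show D.w * (D.w * D.x ^ N * D.w⁻¹) * D.w⁻¹ = (D.w * D.w) * D.x ^ N * (D.w * D.w)⁻¹ by group, D.hww,
      mul_inv_eq_iff_eq_mul]
    exact (D.xc.symm.pow_pow D.k N).eq
  have e5 : D.x ^ N = (D.x * D.h⁻¹) ^ N := by
    rw [← e4, e3, hK, ← conj_pow, D.w_x]
  rw [D.xc.inv_right.mul_pow, inv_pow, left_eq_mul, inv_eq_one] at e5
  exact e5

theorem x_pow_card : D.x ^ (Fintype.card F - 1) = 1 := by
  rw [x, conj_pow, inv_pow, D.h_pow_card, inv_one, mul_one, mul_inv_cancel]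

theorem h_pow_two_k : D.h ^ (2 * D.k) = 1 := by
  rw [two_mul, pow_add]
  have h1 : D.w * D.h ^ D.k * D.w⁻¹ = (D.h ^ D.k)⁻¹ := by rw [← conj_pow, D.hwh, inv_pow]
  have h2 : D.w * D.h ^ D.k * D.w⁻¹ = D.h ^ D.k := by rw [← D.hww]; group
  rw [h2] at h1
  nth_rewrite 1 [h1]
  exact inv_mul_cancel _

theorem h_pow_k_inv : (D.h ^ D.k)⁻¹ = D.h ^ D.k :=
  inv_eq_of_mul_eq_one_right (by rw [← pow_add, ← two_mul, D.h_pow_two_k])

theorem x_pow_k_inv : (D.x ^ D.k)⁻¹ = D.x ^ D.k := by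
  rw [x, conj_pow, inv_pow, D.h_pow_k_inv]
  simp only [mul_inv_rev, inv_inv, D.h_pow_k_inv, mul_assoc]

theorem hv_h : Sc D.h D.v D.ω⁻¹ := by
  have h1 : Sc (D.x * D.h⁻¹) D.Xf (D.ω * (D.ω ^ 2)⁻¹) := Sc.mul D.hx D.hh.inv
  rw [← D.cinv_h] at h1
  have := h1.conj D.c
  rw [show D.c * (D.c⁻¹ * D.h * D.c) * D.c⁻¹ = D.h by group, show D.ω * (D.ω ^ 2)⁻¹ = D.ω⁻¹ by group] at this
  exact this

theorem hv_x : Sc D.x D.v (D.ω ^ 2)⁻¹ := by
  have := D.hh.inv.conj D.c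
  exact this

theorem hz_h : Sc D.h D.z D.ω := by
  have := D.hv_h.inv.conj D.w
  rwa [inv_inv, show D.w * D.h⁻¹ * D.w⁻¹ = D.h by
    rw [show D.w * D.h⁻¹ * D.w⁻¹ = (D.w * D.h * D.w⁻¹)⁻¹ by group, D.hwh, inv_inv]] at this

theorem w_conj_w_x : D.w * (D.x * D.h⁻¹) * D.w⁻¹ = D.x := by
  rw [show D.w * (D.x * D.h⁻¹) * D.w⁻¹ = (D.w * D.x * D.w⁻¹) * (D.w * D.h * D.w⁻¹)⁻¹ by group, D.w_x, D.hwh,
    inv_inv, inv_mul_cancel_right]

theorem hz_x : Sc D.x D.z D.ω⁻¹ := by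
  have := (D.hv_x.mul D.hv_h.inv).conj D.w
  rwa [D.w_conj_w_x, inv_inv, show (D.ω ^ 2)⁻¹ * D.ω = D.ω⁻¹ by group] at this

theorem w_z (t : F) : D.w * D.z t * D.w⁻¹ = D.v (-t) := by
  have := D.hv_h.pow D.k t
  rw [inv_pow, D.hωk, inv_neg, inv_one, Units.val_neg, Units.val_one, neg_one_mul] at this
  rw [← this, z, ← D.hww]; group

theorem w_v (t : F) : D.w * D.v t * D.w⁻¹ = D.z t := rfl

/-- The Weyl element at `(2, 3)`. -/
def w' : G := D.c * D.w * D.c⁻¹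

theorem w'_eq : D.w' = D.w * D.c * D.x ^ D.k := by
  have h1 : D.w⁻¹ * D.c⁻¹ * D.w = D.h ^ D.k * D.c := by
    have e : D.w⁻¹ * (D.h ^ D.k * D.c⁻¹) * D.w = D.c := by rw [← D.hwcw]; group
    have e' : D.w⁻¹ * D.h ^ D.k * D.w = D.h ^ D.k := by
      rw [← D.hww]; group
    calc D.w⁻¹ * D.c⁻¹ * D.w = (D.w⁻¹ * D.h ^ D.k * D.w)⁻¹ * (D.w⁻¹ * (D.h ^ D.k * D.c⁻¹) * D.w) := by group
      _ = _ := by rw [e, e', D.h_pow_k_inv]
  have h2 : D.w⁻¹ * D.c * D.w = D.c⁻¹ * D.h ^ D.k := by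
    rw [← inv_inj, mul_inv_rev, mul_inv_rev, mul_inv_rev, inv_inv, inv_inv, D.h_pow_k_inv, ← h1]
    simp only [mul_assoc]
  have h3 : D.x ^ D.k = D.c * D.h ^ D.k * D.c⁻¹ := by rw [x, conj_pow, inv_pow, D.h_pow_k_inv]
  calc D.w' = D.w * (D.w⁻¹ * D.c * D.w) * D.c⁻¹ := by rw [w']; group
    _ = D.w * (D.c * D.c) * D.h ^ D.k * D.c⁻¹ := by rw [h2, D.cinv]; group
    _ = D.w * D.c * D.x ^ D.k := by rw [h3]; group

theorem w'_w' : D.w' * D.w' = D.x ^ D.k := by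
  rw [w', show D.c * D.w * D.c⁻¹ * (D.c * D.w * D.c⁻¹) = D.c * (D.w * D.w) * D.c⁻¹ by group, D.hww, x, conj_pow,
    inv_pow, D.h_pow_k_inv]

theorem w'_Xf (t : F) : D.w' * D.Xf t * D.w'⁻¹ = D.z (-t) := by
  have := Sc.pow D.hx D.k t
  rw [D.hωk, Units.val_neg, Units.val_one, neg_one_mul] at this
  rw [D.w'_eq, z, v, ← this, x]; group

theorem w'_z (t : F) : D.w' * D.z t * D.w'⁻¹ = D.Xf t := by
  have := Sc.pow D.hx D.k (-t)
  rw [D.hωk, Units.val_neg, Units.val_one, neg_one_mul, neg_neg] at this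
  have e := D.w'_Xf (-t)
  rw [neg_neg] at e
  rw [← e, show D.w' * (D.w' * D.Xf (-t) * D.w'⁻¹) * D.w'⁻¹ = (D.w' * D.w') * D.Xf (-t) * (D.w' * D.w')⁻¹ by group,
    D.w'_w']
  exact this

theorem ww' : D.w * D.w' = D.c * D.h ^ D.k := by
  have h1 : D.h ^ D.k * D.c = D.c * (D.x * D.h⁻¹) ^ D.k := by
    have := conj_pow (a := D.c⁻¹) (b := D.h) (i := D.k)
    rw [inv_inv, D.cinv_h] at this
    rw [this]; group
  calc D.w * D.w' = (D.w * D.w) * D.c * D.x ^ D.k := by rw [D.w'_eq]; group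
    _ = D.c * ((D.x * D.h⁻¹) ^ D.k * D.x ^ D.k) := by rw [D.hww, h1]; group
    _ = D.c * ((D.x ^ D.k * D.x ^ D.k) * (D.h ^ D.k)⁻¹) := by
      rw [D.xc.inv_right.mul_pow, inv_pow, mul_assoc (D.x ^ D.k),
        ((D.xc.pow_pow D.k D.k).inv_right).symm.eq]
      group
    _ = D.c * D.h ^ D.k := by
      nth_rewrite 1 [← D.x_pow_k_inv]
      rw [inv_mul_cancel, one_mul, D.h_pow_k_inv]

theorem braid : D.w' * D.w * D.w' = D.w * D.w' * D.w := by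
  have h1 : D.h ^ D.k * D.w = D.w * D.h ^ D.k := by rw [← D.hww, mul_assoc]
  calc D.w' * D.w * D.w' = D.w' * (D.w * D.w') := mul_assoc _ _ _
    _ = D.c * (D.w * D.h ^ D.k) := by rw [D.ww', w']; group
    _ = D.w * D.w' * D.w := by rw [D.ww', ← h1]; group

theorem c_eq : D.c = D.w * D.w' * D.h ^ D.k := by
  rw [D.ww', mul_assoc, ← pow_add, ← two_mul, D.h_pow_two_k, mul_one]

end Frame

end CfsgLib.SL3Pres
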