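import Cfsg.Agent.SL2Pres.Concrete
import Cfsg.Agent.SL3Pres.Frame

/-!
# The standard elements of `SL₃(F)`
-/

set_option autoImplicit false

namespace CfsgLib.SL3Pres

open CfsgLib.SL2Pres Polynomial

theorem fin3cases {P : Fin 3 → Fin 3 → Prop} (h00 : P 0 0) (h01 : P 0 1) (h02 : P 0 2) (h10 : P 1 0)
    (h11 : P 1 1) (h12 : P 1 2) (h20 : P 2 0) (h21 : P 2 1) (h22 : P 2 2) (i j : Fin 3) : P i j := by
  fin_cases i <;> fin_cases j <;> assumption

variable {F : Type*} [Field F]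

/-- The upper left block. -/
def emb : Matrix.SpecialLinearGroup (Fin 2) F →* Matrix.SpecialLinearGroup (Fin 3) F where
  toFun g := ⟨!![g.1 0 0, g.1 0 1, 0; g.1 1 0, g.1 1 1, 0; 0, 0, 1], by
    have h := g.2
    rw [Matrix.det_fin_two] at h
    simp [Matrix.det_fin_three]
    linear_combination h⟩
  map_one' := by
    apply Subtype.ext
    ext i j
    fin_cases i <;> fin_cases j <;> simp
  map_mul' a b := by
    apply Subtype.ext
    change !![(a * b).1 0 0, (a * b).1 0 1, 0; (a * b).1 1 0, (a * b).1 1 1, 0; 0, 0, 1] =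
      !![a.1 0 0, a.1 0 1, 0; a.1 1 0, a.1 1 1, 0; 0, 0, 1] * !![b.1 0 0, b.1 0 1, 0; b.1 1 0, b.1 1 1, 0; 0, 0, 1]
    ext i j
    fin_cases i <;> fin_cases j <;>
      simp [Matrix.SpecialLinearGroup.coe_mul, Matrix.mul_apply, Fin.sum_univ_two, Fin.sum_univ_three]

theorem coe_emb (g : Matrix.SpecialLinearGroup (Fin 2) F) :
    ((emb g : Matrix.SpecialLinearGroup (Fin 3) F) : Matrix (Fin 3) (Fin 3) F) =
      !![g.1 0 0, g.1 0 1, 0; g.1 1 0, g.1 1 1, 0; 0, 0, 1] := rfl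

/-- The 3-cycle. -/
def cC : Matrix.SpecialLinearGroup (Fin 3) F :=
  ⟨!![0, 0, 1; 1, 0, 0; 0, 1, 0], by simp [Matrix.det_fin_three]⟩

theorem coe_cC : ((cC : Matrix.SpecialLinearGroup (Fin 3) F) : Matrix (Fin 3) (Fin 3) F) =
    !![0, 0, 1; 1, 0, 0; 0, 1, 0] := rfl

/-- `diag (1, a, a⁻¹)`. -/
def dD (a : Fˣ) : Matrix.SpecialLinearGroup (Fin 3) F :=
  ⟨!![1, 0, 0; 0, (a : F), 0; 0, 0, ((a⁻¹ : Fˣ) : F)], by simp [Matrix.det_fin_three]⟩

theorem coe_dD (a : Fˣ) : ((dD a : Matrix.SpecialLinearGroup (Fin 3) F) : Matrix (Fin 3) (Fin 3) F) =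
    !![1, 0, 0; 0, (a : F), 0; 0, 0, ((a⁻¹ : Fˣ) : F)] := rfl

/-- The root elements at `(1, 3)`. -/
def x02 (t : F) : Matrix.SpecialLinearGroup (Fin 3) F :=
  ⟨!![1, 0, t; 0, 1, 0; 0, 0, 1], by simp [Matrix.det_fin_three]⟩

/-- The root elements at `(2, 3)`. -/
def x12 (t : F) : Matrix.SpecialLinearGroup (Fin 3) F :=
  ⟨!![1, 0, 0; 0, 1, t; 0, 0, 1], by simp [Matrix.det_fin_three]⟩

theorem coe_x02 (t : F) : ((x02 t : Matrix.SpecialLinearGroup (Fin 3) F) : Matrix (Fin 3) (Fin 3) F) =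
    !![1, 0, t; 0, 1, 0; 0, 0, 1] := rfl

theorem coe_x12 (t : F) : ((x12 t : Matrix.SpecialLinearGroup (Fin 3) F) : Matrix (Fin 3) (Fin 3) F) =
    !![1, 0, 0; 0, 1, t; 0, 0, 1] := rfl



theorem cC_hD (a : Fˣ) : cC * emb (hD a) * cC⁻¹ = (dD a : Matrix.SpecialLinearGroup (Fin 3) F) := by
  rw [mul_inv_eq_iff_eq_mul]
  apply Subtype.ext
  ext i j
  fin_cases i <;> fin_cases j <;>
    simp [Matrix.SpecialLinearGroup.coe_mul, coe_emb, coe_cC, coe_dD, coe_hD, Matrix.mul_apply, Fin.sum_univ_three]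

theorem dD_inv (a : Fˣ) : (dD a : Matrix.SpecialLinearGroup (Fin 3) F)⁻¹ = dD a⁻¹ := by
  rw [← cC_hD, ← cC_hD, ← hD_inv, map_inv]; group

theorem dD_xU (a : Fˣ) (t : F) : dD a⁻¹ * emb (xU t) * (dD a⁻¹)⁻¹ = emb (xU ((a : F) * t)) := by
  rw [mul_inv_eq_iff_eq_mul]
  apply Subtype.ext
  ext i j
  fin_cases i <;> fin_cases j <;>
    simp [Matrix.SpecialLinearGroup.coe_mul, coe_emb, coe_dD, coe_xU, Matrix.mul_apply, Fin.sum_univ_three] <;> field_simp

theorem cC_pow : (cC : Matrix.SpecialLinearGroup (Fin 3) F) ^ 3 = 1 := by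
  apply Subtype.ext
  rw [Matrix.SpecialLinearGroup.coe_pow, pow_three]
  ext i j
  fin_cases i <;> fin_cases j <;>
    simp [coe_cC, Matrix.mul_apply, Fin.sum_univ_three]

theorem hD_cC_pow (a : Fˣ) : (emb (hD a) * cC : Matrix.SpecialLinearGroup (Fin 3) F) ^ 3 = 1 := by
  apply Subtype.ext
  rw [Matrix.SpecialLinearGroup.coe_pow, pow_three]
  ext i j
  fin_cases i <;> fin_cases j <;>
    simp [Matrix.SpecialLinearGroup.coe_mul, coe_emb, coe_cC, coe_hD, Matrix.mul_apply, Fin.sum_univ_three]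

theorem hD_dD (a b : Fˣ) : Commute (emb (hD a)) (dD b : Matrix.SpecialLinearGroup (Fin 3) F) := by
  apply Subtype.ext
  ext i j
  fin_cases i <;> fin_cases j <;>
    simp [Matrix.SpecialLinearGroup.coe_mul, coe_emb, coe_dD, coe_hD, Matrix.mul_apply, Fin.sum_univ_three, mul_comm]

theorem wW_cC : emb wW * cC * (emb wW)⁻¹ = emb (hD (-1 : Fˣ)) * (cC : Matrix.SpecialLinearGroup (Fin 3) F)⁻¹ := by
  rw [show (cC : Matrix.SpecialLinearGroup (Fin 3) F)⁻¹ = cC * cC by
    apply inv_eq_of_mul_eq_one_right; rw [← mul_assoc, ← pow_three', cC_pow], mul_inv_eq_iff_eq_mul]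
  apply Subtype.ext
  ext i j
  fin_cases i <;> fin_cases j <;>
    simp [Matrix.SpecialLinearGroup.coe_mul, coe_emb, coe_cC, coe_hD, coe_wW, Matrix.mul_apply, Fin.sum_univ_three]

theorem cC_xU (t : F) : cC * emb (xU t) * cC⁻¹ = (x12 t : Matrix.SpecialLinearGroup (Fin 3) F) := by
  rw [mul_inv_eq_iff_eq_mul]
  apply Subtype.ext
  ext i j
  fin_cases i <;> fin_cases j <;>
    simp [Matrix.SpecialLinearGroup.coe_mul, coe_emb, coe_cC, coe_xU, coe_x12, Matrix.mul_apply, Fin.sum_univ_three]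

theorem wW_x12 (t : F) : emb wW * x12 t * (emb wW)⁻¹ = (x02 t : Matrix.SpecialLinearGroup (Fin 3) F) := by
  rw [mul_inv_eq_iff_eq_mul]
  apply Subtype.ext
  ext i j
  fin_cases i <;> fin_cases j <;>
    simp [Matrix.SpecialLinearGroup.coe_mul, coe_emb, coe_wW, coe_x02, coe_x12, Matrix.mul_apply, Fin.sum_univ_three]

theorem xU_x02 (s t : F) : Commute (emb (xU s)) (x02 t : Matrix.SpecialLinearGroup (Fin 3) F) := by
  apply Subtype.ext
  ext i j
  fin_cases i <;> fin_cases j <;>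
    simp [Matrix.SpecialLinearGroup.coe_mul, coe_emb, coe_x02, coe_xU, Matrix.mul_apply, Fin.sum_univ_three]

theorem xU_x12 (s t : F) :
    emb (xU s) * x12 t = x02 (s * t) * x12 t * (emb (xU s) : Matrix.SpecialLinearGroup (Fin 3) F) := by
  apply Subtype.ext
  ext i j
  fin_cases i <;> fin_cases j <;>
    simp [Matrix.SpecialLinearGroup.coe_mul, coe_emb, coe_x02, coe_x12, coe_xU, Matrix.mul_apply, Fin.sum_univ_three]

theorem closure_gen : Subgroup.closure (Set.range (fun t : F => (emb (xU t) : Matrix.SpecialLinearGroup (Fin 3) F)) ∪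
    {emb wW, cC}) = ⊤ := by
  apply CfsgLib.Linear.sl_eq_top_of_transvections
  intro i j hij a
  set S := Set.range (fun t : F => (emb (xU t) : Matrix.SpecialLinearGroup (Fin 3) F)) ∪ {emb wW, cC}
  have hu : ∀ t, emb (xU t) ∈ Subgroup.closure S := fun t => Subgroup.subset_closure (Or.inl ⟨t, rfl⟩)
  have hw : emb wW ∈ Subgroup.closure S := Subgroup.subset_closure (Or.inr (Or.inl rfl))
  have hc : cC ∈ Subgroup.closure S := Subgroup.subset_closure (Or.inr (Or.inr rfl))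
  have hcu : ∀ g ∈ Subgroup.closure S, cC * g * cC⁻¹ ∈ Subgroup.closure S :=
    fun g hg => mul_mem (mul_mem hc hg) (inv_mem hc)
  have h01 : ∀ a : F, Matrix.SpecialLinearGroup.transvection (show (0 : Fin 3) ≠ 1 by decide) a = emb (xU a) := by
    intro a
    apply Subtype.ext
    ext k l
    fin_cases k <;> fin_cases l <;>
      simp [coe_emb, coe_xU, Matrix.SpecialLinearGroup.transvection_coe, Matrix.single]
  have h10 : ∀ a : F, Matrix.SpecialLinearGroup.transvection (show (1 : Fin 3) ≠ 0 by decide) a =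
      emb wW * emb (xU (-a)) * (emb wW)⁻¹ := by
    intro a
    rw [eq_mul_inv_iff_mul_eq]
    apply Subtype.ext
    ext k l
    fin_cases k <;> fin_cases l <;>
      simp [Matrix.SpecialLinearGroup.coe_mul, coe_emb, coe_xU, coe_wW, Matrix.SpecialLinearGroup.transvection_coe,
        Matrix.single, Matrix.mul_apply, Fin.sum_univ_three]
  have hrot : ∀ (i j i' j' : Fin 3) (h : i ≠ j) (h' : i' ≠ j') (a : F), i' = i + 1 → j' = j + 1 →
      Matrix.SpecialLinearGroup.transvection h' a = cC * Matrix.SpecialLinearGroup.transvection h a * cC⁻¹ := by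
    intro i j i' j' h h' a hi hj
    subst hi hj
    rw [eq_mul_inv_iff_mul_eq]
    apply Subtype.ext
    ext k l
    fin_cases i <;> fin_cases j <;> (try exact absurd rfl h) <;>
      fin_cases k <;> fin_cases l <;>
      simp [Matrix.SpecialLinearGroup.coe_mul, coe_cC, Matrix.SpecialLinearGroup.transvection_coe, Matrix.single,
        Matrix.mul_apply, Fin.sum_univ_three]
  have m01 : ∀ a : F, Matrix.SpecialLinearGroup.transvection (show (0 : Fin 3) ≠ 1 by decide) a ∈ Subgroup.closure S :=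
    fun a => h01 a ▸ hu a
  have m10 : ∀ a : F, Matrix.SpecialLinearGroup.transvection (show (1 : Fin 3) ≠ 0 by decide) a ∈ Subgroup.closure S :=
    fun a => h10 a ▸ mul_mem (mul_mem hw (hu _)) (inv_mem hw)
  have m12 : ∀ a : F, Matrix.SpecialLinearGroup.transvection (show (1 : Fin 3) ≠ 2 by decide) a ∈ Subgroup.closure S :=
    fun a => hrot 0 1 1 2 (by decide) (by decide) a rfl rfl ▸ hcu _ (m01 a)
  have m21 : ∀ a : F, Matrix.SpecialLinearGroup.transvection (show (2 : Fin 3) ≠ 1 by decide) a ∈ Subgroup.closure S :=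
    fun a => hrot 1 0 2 1 (by decide) (by decide) a rfl rfl ▸ hcu _ (m10 a)
  have m20 : ∀ a : F, Matrix.SpecialLinearGroup.transvection (show (2 : Fin 3) ≠ 0 by decide) a ∈ Subgroup.closure S :=
    fun a => hrot 1 2 2 0 (by decide) (by decide) a rfl rfl ▸ hcu _ (m12 a)
  have m02 : ∀ a : F, Matrix.SpecialLinearGroup.transvection (show (0 : Fin 3) ≠ 2 by decide) a ∈ Subgroup.closure S :=
    fun a => hrot 2 1 0 2 (by decide) (by decide) a rfl rfl ▸ hcu _ (m21 a)
  revert a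
  revert hij
  revert j
  revert i
  intro i j
  refine fin3cases (P := fun i j => ∀ (hij : i ≠ j) (a : F),
    Matrix.SpecialLinearGroup.transvection hij a ∈ Subgroup.closure S) ?_ ?_ ?_ ?_ ?_ ?_ ?_ ?_ ?_ i j <;> intro hij
  · exact absurd rfl hij
  · exact m01
  · exact m02
  · exact m10
  · exact absurd rfl hij
  · exact m12
  · exact m20
  · exact m21
  · exact absurd rfl hij

theorem card_SL_three [Fintype F] :
    Nat.card (Matrix.SpecialLinearGroup (Fin 3) F) =
      Fintype.card F ^ 3 * ((Fintype.card F ^ 2 - 1) * (Fintype.card F ^ 3 - 1)) := by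
  have h := CfsgLib.Linear.card_SL_mul (n := Fin 3) (F := F)
  have hq : 0 < Fintype.card F - 1 := by
    have := Fintype.one_lt_card (α := F)
    omega
  rw [Matrix.card_GL_field, CfsgLib.Linear.prod_pow_sub_pow] at h
  simp [Finset.prod_range_succ] at h
  refine Nat.eq_of_mul_eq_mul_left hq (h.trans ?_)
  ring

end CfsgLib.SL3Pres
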