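import Cfsg.Agent.SL3Pres.Steinberg
import Cfsg.Agent.SL2Pres.Bruhat

/-!
# Counting cosets of the maximal parabolic subgroup
-/

set_option autoImplicit false

open scoped Pointwise

namespace CfsgLib.SL3Pres

variable {G F : Type*} [Group G] [Field F] [Fintype F]

omit [Fintype F] in
theorem card_sup_le_mul (H K : Subgroup G) [Finite H] [Finite K] (hK : K ≤ Subgroup.normalizer (H : Set G)) :
    Finite (H ⊔ K : Subgroup G) ∧ Nat.card (H ⊔ K : Subgroup G) ≤ Nat.card H * Nat.card K := by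
  have e := Subgroup.coe_mul_of_right_le_normalizer_left H K hK
  have hf : ((H : Set G) * (K : Set G)).Finite := (Set.toFinite _).mul (Set.toFinite _)
  rw [← e] at hf
  refine ⟨hf.to_subtype, ?_⟩
  have h := Set.natCard_mul_le (s := (H : Set G)) (t := (K : Set G))
  rw [← e] at h
  exact h

theorem mem_normalizer_of_finite {G : Type*} [Group G] (S : Set G) [Finite (Subgroup.closure S)] {g : G}
    (h : ∀ s ∈ S, g * s * g⁻¹ ∈ Subgroup.closure S) : g ∈ Subgroup.normalizer (Subgroup.closure S : Set G) := by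
  rw [Subgroup.mem_normalizer_iff_map_conj_eq]
  have hle : (Subgroup.closure S).map (MulAut.conj g).toMonoidHom ≤ Subgroup.closure S := by
    rw [MonoidHom.map_closure, Subgroup.closure_le]
    rintro _ ⟨s, hs, rfl⟩
    exact h s hs
  exact Subgroup.eq_of_le_of_card_ge hle
    (le_of_eq (Subgroup.card_map_of_injective (MulAut.conj g).injective).symm)

namespace Frame

variable (D : Frame G F)

theorem hwX (t : F) (ht : t ≠ 0) :
    ∃ (a b : F) (m : ℤ), D.w * D.Xf t * D.w⁻¹ = D.Xf a * D.h ^ m * D.w * D.Xf b := by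
  obtain ⟨n, rfl⟩ := D.hgenω t ht
  set K := D.x * D.h⁻¹ with hK
  have hKX : Sc (K ^ n) D.Xf ((D.ω⁻¹) ^ n) := by
    have := (D.hx'.mul D.hh.inv).pow n
    rwa [show D.ω * (D.ω ^ 2)⁻¹ = D.ω⁻¹ by group] at this
  have hwK : D.w * K ^ n * D.w⁻¹ = D.x ^ n := by rw [← conj_pow, hK, D.w_conj_w_x]
  have hKw : K ^ n * D.w * (K ^ n)⁻¹ = (D.h ^ n)⁻¹ * D.w := by
    calc K ^ n * D.w * (K ^ n)⁻¹ = K ^ n * (D.w * K ^ n * D.w⁻¹)⁻¹ * D.w := by group
      _ = _ := by
        rw [hwK, hK, D.xc.inv_right.mul_pow, (D.xc.inv_right.pow_pow n n).eq, inv_pow]; group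
  refine ⟨((((D.ω⁻¹) ^ n : Fˣ)) : F) * -1, ((((D.ω⁻¹) ^ n : Fˣ)) : F) * -1, -(n : ℤ), ?_⟩
  rw [zpow_neg, zpow_natCast]
  have hx := D.hx'.pow n 1
  rw [mul_one, Units.val_pow_eq_pow_val] at hx
  have hw : D.w * D.x ^ n * D.w⁻¹ = K ^ n := by rw [← conj_pow, D.w_x]
  calc D.w * D.Xf ((D.ω : F) ^ n) * D.w⁻¹
      = (D.w * D.x ^ n * D.w⁻¹) * (D.w * D.Xf 1 * D.w⁻¹) * (D.w * D.x ^ n * D.w⁻¹)⁻¹ := by
        rw [← hx]; group
    _ = (K ^ n * D.Xf (-1) * (K ^ n)⁻¹) * (K ^ n * D.w * (K ^ n)⁻¹) * (K ^ n * D.Xf (-1) * (K ^ n)⁻¹) := by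
        rw [hw, D.hwX1]; group
    _ = _ := by rw [hKX, hKw]; group

/-- The image of `SL₂`. -/
def L0 : Subgroup G := Subgroup.closure (Set.range D.Xf ∪ {D.h, D.w})

theorem card_L0 :
    Finite D.L0 ∧ Nat.card D.L0 ≤ Fintype.card F * (Fintype.card F - 1) * (Fintype.card F + 1) := by
  set S := Set.range D.Xf ∪ {D.h, D.w}
  have hX : ∀ t, D.Xf t ∈ D.L0 := fun t => Subgroup.subset_closure (Or.inl ⟨t, rfl⟩)
  have hh : D.h ∈ D.L0 := Subgroup.subset_closure (Or.inr (Or.inl rfl))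
  have hw : D.w ∈ D.L0 := Subgroup.subset_closure (Or.inr (Or.inr rfl))
  let Xf' : F → D.L0 := fun t => ⟨D.Xf t, hX t⟩
  refine CfsgLib.SL2Pres.bruhat_bound Xf' (⟨D.h, hh⟩ : D.L0) ⟨D.w, hw⟩ D.ω (Fintype.card F - 1)
    (by have := Fintype.one_lt_card (α := F); omega) ?_ (fun s t => Subtype.ext (D.hadd s t)) ?_
    (Subtype.ext (by simpa using D.h_pow_card)) (Subtype.ext (by simpa using D.hwh)) ⟨(D.k : ℤ), ?_⟩ ?_
  · rw [eq_top_iff]
    have e : (⊤ : Subgroup D.L0) = Subgroup.closure (((↑) : D.L0 → G) ⁻¹' S) :=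
      (Subgroup.closure_closure_coe_preimage).symm
    rw [e]
    apply Subgroup.closure_mono
    rintro ⟨g, hg⟩ (⟨t, ht⟩ | h1 | h1)
    · exact Or.inl ⟨t, Subtype.ext ht⟩
    · exact Or.inr (Or.inl (Subtype.ext h1))
    · exact Or.inr (Or.inr (Subtype.ext h1))
  · intro t
    refine Subtype.ext ?_
    simpa [Xf'] using D.hh t
  · refine Subtype.ext ?_
    simpa using D.hww
  · intro t ht
    obtain ⟨a, b, m, e⟩ := D.hwX t ht
    exact ⟨a, b, m, Subtype.ext (by simpa [Xf'] using e)⟩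

theorem x_w_x : D.x * D.w * D.x⁻¹ = D.h * D.w := by
  calc D.x * D.w * D.x⁻¹ = D.x * (D.w * D.x * D.w⁻¹)⁻¹ * D.w := by group
    _ = _ := by
      rw [D.w_x, show D.x * (D.x * D.h⁻¹)⁻¹ = D.x * D.h * D.x⁻¹ by group, D.xc.eq, mul_inv_cancel_right]

/-- The Levi factor. -/
def L : Subgroup G := D.L0 ⊔ Subgroup.zpowers D.x

theorem zpowers_le_normalizer : Subgroup.zpowers D.x ≤ Subgroup.normalizer (D.L0 : Set G) := by
  have : Finite D.L0 := D.card_L0.1
  have : Finite (Subgroup.closure (Set.range D.Xf ∪ {D.h, D.w}) : Subgroup G) := this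
  rw [Subgroup.zpowers_le]
  refine mem_normalizer_of_finite _ ?_
  rintro _ (⟨t, rfl⟩ | rfl | rfl)
  · rw [D.hx' t]; exact Subgroup.subset_closure (Or.inl ⟨_, rfl⟩)
  · rw [D.xc.eq, mul_inv_cancel_right]; exact Subgroup.subset_closure (Or.inr (Or.inl rfl))
  · rw [D.x_w_x]
    exact Subgroup.mul_mem _ (Subgroup.subset_closure (Or.inr (Or.inl rfl))) (Subgroup.subset_closure (Or.inr (Or.inr rfl)))

theorem card_L :
    Finite D.L ∧ Nat.card D.L ≤
      Fintype.card F * (Fintype.card F - 1) * (Fintype.card F + 1) * (Fintype.card F - 1) := by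
  obtain ⟨hf, hc⟩ := D.card_L0
  have hN : 0 < Fintype.card F - 1 := by have := Fintype.one_lt_card (α := F); omega
  have ho : orderOf D.x ≤ Fintype.card F - 1 := orderOf_le_of_pow_eq_one hN D.x_pow_card
  have : Finite (Subgroup.zpowers D.x) :=
    isOfFinOrder_iff_pow_eq_one.2 ⟨_, hN, D.x_pow_card⟩ |>.finite_zpowers.to_subtype
  obtain ⟨h1, h2⟩ := card_sup_le_mul _ _ D.zpowers_le_normalizer
  exact ⟨h1, h2.trans (Nat.mul_le_mul hc (Nat.card_zpowers D.x ▸ ho))⟩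

theorem mem_L_x : D.x ∈ D.L := Subgroup.mem_sup_right (Subgroup.mem_zpowers _)

theorem mem_L_Xf (t : F) : D.Xf t ∈ D.L := Subgroup.mem_sup_left (Subgroup.subset_closure (Or.inl ⟨t, rfl⟩))

theorem mem_L_h : D.h ∈ D.L := Subgroup.mem_sup_left (Subgroup.subset_closure (Or.inr (Or.inl rfl)))

theorem mem_L_w : D.w ∈ D.L := Subgroup.mem_sup_left (Subgroup.subset_closure (Or.inr (Or.inr rfl)))

section Rel

variable (hb : ∀ s t, D.Rel s t)
include hb

theorem bound :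
    Finite G ∧ Nat.card G ≤ (1 + Fintype.card F + Fintype.card F * Fintype.card F) *
      (Fintype.card F * Fintype.card F *
        (Fintype.card F * (Fintype.card F - 1) * (Fintype.card F + 1) * (Fintype.card F - 1))) := by
  classical
  -- the unipotent radical
  let S : Set G := Set.range D.z ∪ Set.range D.v
  let φ : Multiplicative (F × F) →* G :=
    { toFun := fun q => D.z q.toAdd.1 * D.v q.toAdd.2
      map_one' := by simp [D.z_zero, D.v_zero]
      map_mul' := fun a b => by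
        simp only [toAdd_mul, Prod.fst_add, Prod.snd_add, D.z_add, D.v_add]
        rw [mul_assoc, ← mul_assoc (D.z b.toAdd.1), ← (D.vz_of_rel hb a.toAdd.2 b.toAdd.1).eq]
        group }
  have hQ : Subgroup.closure S ≤ φ.range := by
    rw [Subgroup.closure_le]
    rintro _ (⟨t, rfl⟩ | ⟨t, rfl⟩)
    · exact ⟨Multiplicative.ofAdd (t, 0), by simp [φ, D.v_zero]⟩
    · exact ⟨Multiplicative.ofAdd (0, t), by simp [φ, D.z_zero]⟩
  have : Finite φ.range := inferInstanceAs (Finite (Set.range φ))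
  have hQf : Finite (Subgroup.closure S) := Finite.of_injective _ (Subgroup.inclusion_injective hQ)
  have hQc : Nat.card (Subgroup.closure S) ≤ Fintype.card F * Fintype.card F := by
    refine (Nat.card_le_card_of_injective _ (Subgroup.inclusion_injective hQ)).trans ?_
    have : Nat.card φ.range ≤ Nat.card (Multiplicative (F × F)) := Finite.card_range_le φ
    simpa [Nat.card_eq_fintype_card] using this
  have zQ : ∀ t, D.z t ∈ Subgroup.closure S := fun t => Subgroup.subset_closure (Or.inl ⟨t, rfl⟩)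
  have vQ : ∀ t, D.v t ∈ Subgroup.closure S := fun t => Subgroup.subset_closure (Or.inr ⟨t, rfl⟩)
  have hLQ : D.L ≤ Subgroup.normalizer (Subgroup.closure S : Set G) := by
    refine sup_le ((Subgroup.closure_le _).2 ?_) (Subgroup.zpowers_le.2 (mem_normalizer_of_finite _ ?_))
    · rintro _ (⟨s, rfl⟩ | rfl | rfl) <;> refine mem_normalizer_of_finite _ ?_
      · rintro _ (⟨t, rfl⟩ | ⟨t, rfl⟩)
        · rw [(D.uz_of_rel hb s t).eq, mul_inv_cancel_right]; exact zQ t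
        · rw [show D.Xf s * D.v t = _ from hb s t, mul_inv_cancel_right]
          exact mul_mem (zQ _) (vQ t)
      · rintro _ (⟨t, rfl⟩ | ⟨t, rfl⟩)
        · rw [D.hz_h t]; exact zQ _
        · rw [D.hv_h t]; exact vQ _
      · rintro _ (⟨t, rfl⟩ | ⟨t, rfl⟩)
        · rw [D.w_z t]; exact vQ _
        · rw [D.w_v t]; exact zQ _
    · rintro _ (⟨t, rfl⟩ | ⟨t, rfl⟩)
      · rw [D.hz_x t]; exact zQ _
      · rw [D.hv_x t]; exact vQ _
  -- the parabolic subgroup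
  obtain ⟨hLf, hLc⟩ := D.card_L
  obtain ⟨hPf, hPc⟩ := card_sup_le_mul _ _ hLQ
  set P := Subgroup.closure S ⊔ D.L
  have zP : ∀ t, D.z t ∈ P := fun t => Subgroup.mem_sup_left (zQ t)
  have vP : ∀ t, D.v t ∈ P := fun t => Subgroup.mem_sup_left (vQ t)
  have uP : ∀ t, D.Xf t ∈ P := fun t => Subgroup.mem_sup_right (D.mem_L_Xf t)
  have hP : D.h ∈ P := Subgroup.mem_sup_right D.mem_L_h
  have wP : D.w ∈ P := Subgroup.mem_sup_right D.mem_L_w
  have xP : D.x ∈ P := Subgroup.mem_sup_right D.mem_L_x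
  -- moving across w'
  have hch : D.c⁻¹ * D.h * D.c ∈ P := by rw [D.cinv_h]; exact mul_mem xP (inv_mem hP)
  have hcx : D.c⁻¹ * D.x * D.c ∈ P := by rw [D.cinv_x]; exact inv_mem hP
  have w'h : D.w'⁻¹ * D.h * D.w' ∈ P := by
    have e : D.w'⁻¹ * D.h * D.w' = (D.x ^ D.k)⁻¹ * (D.c⁻¹ * D.h * D.c)⁻¹ * D.x ^ D.k := by
      have : D.w⁻¹ * D.h * D.w = D.h⁻¹ := by
        calc D.w⁻¹ * D.h * D.w = D.w⁻¹ * (D.w * D.h * D.w⁻¹)⁻¹ * D.w := by rw [D.hwh, inv_inv]
          _ = _ := by group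
      calc _ = (D.x ^ D.k)⁻¹ * (D.c⁻¹ * (D.w⁻¹ * D.h * D.w) * D.c) * D.x ^ D.k := by rw [D.w'_eq]; group
        _ = _ := by rw [this]; group
    rw [e]
    exact mul_mem (mul_mem (inv_mem (pow_mem xP _)) (inv_mem hch)) (pow_mem xP _)
  have w'x : D.w'⁻¹ * D.x * D.w' ∈ P := by
    have : D.w⁻¹ * D.x * D.w = D.x * D.h⁻¹ := by
      nth_rewrite 1 [← D.w_conj_w_x]; group
    have e : D.w'⁻¹ * D.x * D.w' =
        (D.x ^ D.k)⁻¹ * ((D.c⁻¹ * D.x * D.c) * (D.c⁻¹ * D.h * D.c)⁻¹) * D.x ^ D.k := by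
      calc _ = (D.x ^ D.k)⁻¹ * (D.c⁻¹ * (D.w⁻¹ * D.x * D.w) * D.c) * D.x ^ D.k := by rw [D.w'_eq]; group
        _ = _ := by rw [this]; group
    rw [e]
    exact mul_mem (mul_mem (inv_mem (pow_mem xP _)) (mul_mem hcx (inv_mem hch))) (pow_mem xP _)
  have w'hz : ∀ m : ℤ, D.w'⁻¹ * D.h ^ m * D.w' ∈ P := fun m => by
    have := zpow_mem w'h m
    rwa [← inv_inv D.w', inv_inv D.w'⁻¹, conj_zpow, inv_inv] at this
  have w'xz : ∀ m : ℤ, D.w'⁻¹ * D.x ^ m * D.w' ∈ P := fun m => by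
    have := zpow_mem w'x m
    rwa [← inv_inv D.w', inv_inv D.w'⁻¹, conj_zpow, inv_inv] at this
  have w'z : ∀ t, D.w'⁻¹ * D.z t * D.w' = D.Xf (-t) := fun t => by
    have := D.w'_Xf (-t)
    rw [neg_neg] at this
    rw [← this]; group
  have w'u : ∀ t, D.w'⁻¹ * D.Xf t * D.w' = D.z t := fun t => by
    rw [← D.w'_z t]; group
  -- the cosets
  let rep : Unit ⊕ F ⊕ (F × F) → G :=
    Sum.elim (fun _ => 1) (Sum.elim (fun a => D.v a * D.w') (fun q => D.Xf q.1 * D.z q.2 * (D.w * D.w')))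
  let f : (Unit ⊕ F ⊕ (F × F)) × P → G := fun q => rep q.1 * q.2
  have hfr : ∀ i p, p ∈ P → rep i * p ∈ Set.range f := fun i p hp => ⟨(i, ⟨p, hp⟩), rfl⟩
  have hP1 : ∀ p ∈ P, p ∈ Set.range f := fun p hp => by
    have := hfr (Sum.inl ()) p hp
    simpa [rep] using this
  have hP2 : ∀ a, ∀ p ∈ P, D.v a * D.w' * p ∈ Set.range f := fun a p hp => hfr (Sum.inr (Sum.inl a)) p hp
  have hP3 : ∀ a b, ∀ p ∈ P, D.Xf a * D.z b * (D.w * D.w') * p ∈ Set.range f := fun a b p hp =>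
    hfr (Sum.inr (Sum.inr (a, b))) p hp
  have hsteps : ∀ g : G, (∀ i, g * rep i ∈ Set.range f) → ∀ y ∈ Set.range f, g * y ∈ Set.range f := by
    rintro g hg _ ⟨⟨i, p⟩, rfl⟩
    obtain ⟨⟨j, p'⟩, hj⟩ := hg i
    exact ⟨(j, p' * p), by simp only [f] at hj ⊢; rw [← mul_assoc, ← hj, Subgroup.coe_mul, mul_assoc]⟩
  have hu : ∀ s, ∀ y ∈ Set.range f, D.Xf s * y ∈ Set.range f := by
    intro s
    refine hsteps _ ?_
    rintro (_ | a | ⟨a, b⟩)
    · simpa [rep] using hP1 _ (uP s)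
    · have e : D.Xf s * (D.v a * D.w') = D.v a * D.w' * ((D.w'⁻¹ * D.z (s * a) * D.w') * (D.w'⁻¹ * D.Xf s * D.w')) := by
        calc D.Xf s * (D.v a * D.w') = (D.Xf s * D.v a) * D.w' := by group
          _ = (D.z (s * a) * D.v a) * D.Xf s * D.w' := by rw [show D.Xf s * D.v a = _ from hb s a]
          _ = _ := by rw [← (D.vz_of_rel hb a (s * a)).eq]; group
      show D.Xf s * (D.v a * D.w') ∈ _
      rw [e, w'z, w'u]
      exact hP2 _ _ (mul_mem (uP _) (zP _))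
    · show D.Xf s * (D.Xf a * D.z b * (D.w * D.w')) ∈ _
      rw [show D.Xf s * (D.Xf a * D.z b * (D.w * D.w')) = D.Xf s * D.Xf a * D.z b * (D.w * D.w') by group, ← D.hadd]
      simpa using hP3 (s + a) b 1 (one_mem _)
  have hhz : ∀ m : ℤ, ∀ y ∈ Set.range f, D.h ^ m * y ∈ Set.range f := by
    intro m
    refine hsteps _ ?_
    have sh : Sc (D.h ^ m) D.v ((D.ω⁻¹) ^ m) ∧ Sc (D.h ^ m) D.Xf ((D.ω ^ 2) ^ m) ∧ Sc (D.h ^ m) D.z (D.ω ^ m) := by
      rcases Int.eq_nat_or_neg m with ⟨n, rfl | rfl⟩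
      · simpa only [zpow_natCast] using ⟨D.hv_h.pow n, D.hh.pow n, D.hz_h.pow n⟩
      · simpa only [zpow_neg, zpow_natCast] using ⟨(D.hv_h.pow n).inv, (D.hh.pow n).inv, (D.hz_h.pow n).inv⟩
    obtain ⟨shv, shu, shz⟩ := sh
    rintro (_ | a | ⟨a, b⟩)
    · simpa [rep] using hP1 _ (zpow_mem hP m)
    · show D.h ^ m * (D.v a * D.w') ∈ _
      rw [show D.h ^ m * (D.v a * D.w') = (D.h ^ m * D.v a * (D.h ^ m)⁻¹) * D.w' * (D.w'⁻¹ * D.h ^ m * D.w') by group,
        shv]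
      exact hP2 _ _ (w'hz m)
    · show D.h ^ m * (D.Xf a * D.z b * (D.w * D.w')) ∈ _
      have e : D.h ^ m * D.w = D.w * D.h ^ (-m) := by
        have : D.w * D.h ^ (-m) * D.w⁻¹ = D.h ^ m := by rw [← conj_zpow, D.hwh, inv_zpow, zpow_neg, inv_inv]
        rw [← this]; group
      rw [show D.h ^ m * (D.Xf a * D.z b * (D.w * D.w')) =
        (D.h ^ m * D.Xf a * (D.h ^ m)⁻¹) * (D.h ^ m * D.z b * (D.h ^ m)⁻¹) * (D.h ^ m * D.w) * D.w' by group, shu, shz,
        e, show ∀ A B : G, A * B * (D.w * D.h ^ (-m)) * D.w' = A * B * (D.w * D.w') * (D.w'⁻¹ * D.h ^ (-m) * D.w')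
          from fun A B => by group]
      exact hP3 _ _ _ (w'hz _)
  have hw : ∀ y ∈ Set.range f, D.w * y ∈ Set.range f := by
    have hw2 : ∀ a, ∀ p ∈ P, D.w * (D.v a * D.w' * p) ∈ Set.range f := fun a p hp => by
      have := hP3 0 a p hp
      rw [D.Xf_zero, one_mul] at this
      rwa [show D.w * (D.v a * D.w' * p) = (D.w * D.v a * D.w⁻¹) * (D.w * D.w') * p by group, D.w_v]
    refine hsteps _ ?_
    rintro (_ | a | ⟨a, b⟩)
    · simpa [rep] using hP1 _ wP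
    · simpa [rep] using hw2 a 1 (one_mem _)
    · show D.w * (D.Xf a * D.z b * (D.w * D.w')) ∈ _
      rw [show D.w * (D.Xf a * D.z b * (D.w * D.w')) =
        (D.w * D.Xf a * D.w⁻¹) * (D.w * D.z b * D.w⁻¹) * (D.w * D.w) * D.w' by group, D.w_z, D.hww]
      by_cases ha : a = 0
      · subst ha
        rw [D.Xf_zero, mul_one, mul_inv_cancel, one_mul, ← zpow_natCast,
          show ∀ A : G, A * D.h ^ (D.k : ℤ) * D.w' = A * D.w' * (D.w'⁻¹ * D.h ^ (D.k : ℤ) * D.w') from fun A => by group]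
        exact hP2 _ _ (w'hz _)
      · obtain ⟨α, β, m, e⟩ := D.hwX a ha
        rw [e, show D.Xf α * D.h ^ m * D.w * D.Xf β * D.v (-b) * D.h ^ D.k * D.w' =
          D.Xf α * (D.h ^ m * (D.w * ((D.Xf β * D.v (-b)) * D.w' * (D.w'⁻¹ * D.h ^ D.k * D.w')))) by group,
          show D.Xf β * D.v (-b) = _ from hb β (-b), ← (D.vz_of_rel hb (-b) (β * -b)).eq]
        refine hu _ _ (hhz m _ ?_)
        rw [show D.v (-b) * D.z (β * -b) * D.Xf β * D.w' * (D.w'⁻¹ * D.h ^ D.k * D.w') =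
          D.v (-b) * D.w' * ((D.w'⁻¹ * D.z (β * -b) * D.w') * (D.w'⁻¹ * D.Xf β * D.w') * (D.w'⁻¹ * D.h ^ D.k * D.w')) by group,
          w'z, w'u]
        refine hw2 _ _ (mul_mem (mul_mem (uP _) (zP _)) ?_)
        simpa using w'hz (D.k : ℤ)
  have hw' : ∀ y ∈ Set.range f, D.w' * y ∈ Set.range f := by
    refine hsteps _ ?_
    rintro (_ | a | ⟨a, b⟩)
    · have := hP2 0 1 (one_mem _)
      simpa [rep, D.v_zero] using this
    · show D.w' * (D.v a * D.w') ∈ _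
      by_cases ha : a = 0
      · subst ha
        rw [D.v_zero, one_mul, D.w'_w']
        exact hP1 _ (pow_mem xP _)
      · obtain ⟨α, β, m, e⟩ := D.hwX a ha
        have e' : D.w' * D.v a * D.w'⁻¹ = D.v α * (D.x ^ m)⁻¹ * D.w' * D.v β := by
          calc D.w' * D.v a * D.w'⁻¹ = D.c * (D.w * D.Xf a * D.w⁻¹) * D.c⁻¹ := by
                simp only [w', v]; group
            _ = _ := by
              rw [e, show D.x ^ m = D.c * (D.h ^ m)⁻¹ * D.c⁻¹ by rw [x, conj_zpow, inv_zpow]]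
              simp only [w', v]; group
        rw [show D.w' * (D.v a * D.w') = (D.w' * D.v a * D.w'⁻¹) * (D.w' * D.w') by group, e', D.w'_w',
          show D.v α * (D.x ^ m)⁻¹ * D.w' * D.v β * D.x ^ D.k =
            D.v α * D.w' * ((D.w'⁻¹ * D.x ^ (-m) * D.w') * D.v β * D.x ^ D.k) by group]
        exact hP2 _ _ (mul_mem (mul_mem (w'xz _) (vP _)) (pow_mem xP _))
    · show D.w' * (D.Xf a * D.z b * (D.w * D.w')) ∈ _
      rw [show D.w' * (D.Xf a * D.z b * (D.w * D.w')) =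
        (D.w' * D.Xf a * D.w'⁻¹) * (D.w' * D.z b * D.w'⁻¹) * (D.w' * D.w * D.w') by group, D.w'_Xf, D.w'_z,
        D.braid, ← mul_assoc, ← (D.uz_of_rel hb b (-a)).eq]
      exact hP3 _ _ _ wP
  -- conclusion
  have hPf' : Finite P := hPf
  have hinv : ∀ g : G, (∀ y ∈ Set.range f, g * y ∈ Set.range f) → ∀ y ∈ Set.range f, g⁻¹ * y ∈ Set.range f := by
    intro g hg y hy
    have hfin : (Set.range f).Finite := Set.finite_range f
    obtain ⟨y', hy', rfl⟩ := ((hfin.injOn_iff_bijOn_of_mapsTo (f := (g * ·)) hg).1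
      fun _ _ _ _ e => mul_left_cancel e).surjOn hy
    simpa using hy'
  have hf : Function.Surjective f := by
    intro y
    have hgen : Subgroup.closure (Set.range D.Xf ∪ {D.h, D.w, D.w'}) = ⊤ := by
      rw [eq_top_iff, ← D.hgen, Subgroup.closure_le]
      have sh : D.h ∈ Subgroup.closure (Set.range D.Xf ∪ {D.h, D.w, D.w'}) :=
        Subgroup.subset_closure (Or.inr (Or.inl rfl))
      rintro _ (⟨t, rfl⟩ | rfl | rfl | rfl)
      · exact Subgroup.subset_closure (Or.inl ⟨t, rfl⟩)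
      · exact sh
      · exact Subgroup.subset_closure (Or.inr (Or.inr (Or.inl rfl)))
      · rw [D.c_eq]
        exact mul_mem (mul_mem (Subgroup.subset_closure (Or.inr (Or.inr (Or.inl rfl))))
          (Subgroup.subset_closure (Or.inr (Or.inr (Or.inr rfl))))) (pow_mem sh _)
    have hy : y ∈ Subgroup.closure (Set.range D.Xf ∪ {D.h, D.w, D.w'}) := by rw [hgen]; trivial
    have hgens : ∀ g ∈ Set.range D.Xf ∪ {D.h, D.w, D.w'}, ∀ z ∈ Set.range f, g * z ∈ Set.range f := by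
      rintro _ (⟨t, rfl⟩ | rfl | rfl | rfl)
      · exact hu t
      · simpa using hhz 1
      · exact hw
      · exact hw'
    show y ∈ Set.range f
    induction hy using Subgroup.closure_induction_left with
    | one => exact hP1 1 (one_mem _)
    | mul_left g hg z _ ih => exact hgens g hg z ih
    | inv_mul_cancel g hg z _ ih => exact hinv g (hgens g hg) z ih
  refine ⟨Finite.of_surjective f hf, (Nat.card_le_card_of_surjective f hf).trans ?_⟩
  rw [Nat.card_prod]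
  refine Nat.mul_le_mul (le_of_eq ?_) (hPc.trans (Nat.mul_le_mul hQc hLc))
  simp only [Nat.card_eq_fintype_card, Fintype.card_sum, Fintype.card_prod, Fintype.card_unit]
  ring

end Rel

end Frame

end CfsgLib.SL3Pres
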