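import Cfsg.Agent.SL3Pres.Bound
import Cfsg.Agent.SL3Pres.Concrete

/-!
# `SL₃(q)` on four generators and fourteen relations
-/

set_option autoImplicit false

namespace CfsgLib.SL3Pres

open CfsgLib.SL2Pres Polynomial IntermediateField

theorem commute_small {G : Type*} [Group G] {p : ℕ} [Fact p.Prime] {x v : G} (m : (ZMod p)[X]) (hmon : m.Monic)
    (h2 : m.natDegree ≤ 2) (h0 : 0 < m.natDegree) (hm : polyWord x v m = 1) (h01 : Commute v (conjPow x v 1)) :
    ∀ k l, Commute (conjPow x v k) (conjPow x v l) := by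
  set n := m.natDegree with hn
  let S := Subgroup.closure ({v, conjPow x v 1} : Set G)
  have hS0 : v ∈ S := Subgroup.subset_closure (Or.inl rfl)
  have hS1 : conjPow x v 1 ∈ S := Subgroup.subset_closure (Or.inr rfl)
  have hlast : conjPow x v n ∈ Subgroup.closure ((fun k => conjPow x v k) '' Set.Iio n) := by
    rw [polyWord_eq_range x v _ (N := n + 1) (by omega), List.range_succ, List.map_append,
      List.prod_append] at hm
    simp only [List.map_cons, List.map_nil, List.prod_cons, List.prod_nil, mul_one] at hm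
    rw [show m.coeff n = 1 from hmon.coeff_natDegree] at hm
    have : Fact (1 < p) := ⟨(Fact.out : p.Prime).one_lt⟩
    rw [ZMod.val_one, pow_one, mul_eq_one_iff_inv_eq] at hm
    rw [← hm]
    refine inv_mem (Subgroup.list_prod_mem _ fun g hg => ?_)
    obtain ⟨k, hk, rfl⟩ := List.mem_map.1 hg
    refine pow_mem (Subgroup.subset_closure ?_) _
    exact ⟨k, List.mem_range.1 hk, rfl⟩
  have h2' : conjPow x v 2 ∈ S := by
    rcases (show n = 1 ∨ n = 2 by omega) with h | h
    · rw [h] at hlast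
      have hz : Subgroup.closure ((fun k => conjPow x v k) '' Set.Iio 1) ≤ Subgroup.zpowers v := by
        rw [Subgroup.closure_le]
        rintro _ ⟨k, hk, rfl⟩
        rw [Set.mem_Iio, Nat.lt_one_iff] at hk
        subst hk
        simp
      obtain ⟨z, hz'⟩ := hz hlast
      have e : v ^ z = conjPow x v 1 := hz'
      rw [← conjPow_succ x v 1, ← e, ← conj_zpow, show x * v * x⁻¹ = conjPow x v 1 by simp [conjPow]]
      exact zpow_mem hS1 z
    · rw [h] at hlast
      refine (Subgroup.closure_le _).2 ?_ hlast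
      rintro _ ⟨k, hk, rfl⟩
      rw [Set.mem_Iio] at hk
      rcases k with _ | _ | k
      · simpa using hS0
      · exact hS1
      · omega
  have hle : S ≤ S.comap (MulAut.conj x).toMonoidHom := by
    rw [Subgroup.closure_le]
    rintro g (rfl | rfl)
    · show x * g * x⁻¹ ∈ S
      simpa [conjPow] using hS1
    · show x * conjPow x v 1 * x⁻¹ ∈ S
      rw [conjPow_succ]; exact h2'
  have hall : ∀ k, conjPow x v k ∈ S := by
    intro k
    induction k with
    | zero => simpa using hS0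
    | succ k ih => rw [← conjPow_succ]; exact hle ih
  have hcS : IsMulCommutative S := Subgroup.isMulCommutative_closure (by
    rintro a (rfl | rfl) b (rfl | rfl)
    · rfl
    · exact h01
    · exact h01.symm
    · rfl)
  intro k l
  exact congrArg Subtype.val (hcS.is_comm.comm (⟨_, hall k⟩ : S) ⟨_, hall l⟩)

variable {F : Type*} [Field F] [Fintype F] {p : ℕ} [Fact p.Prime] [Algebra (ZMod p) F]

/-- The cubes of a generator span `F`, unless `F` has four elements. -/
theorem cubesSpan (p : ℕ) [Fact p.Prime] [Algebra (ZMod p) F] (ω : Fˣ) (hω : orderOf ω = Fintype.card F - 1) (h4 : Fintype.card F ≠ 4) :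
    Frame.CubesSpan ω := by
  have hadj : (ZMod p)⟮((ω : F) ^ 3)⟯ = ⊤ := by
    by_contra h
    set d := Module.finrank (ZMod p) (ZMod p)⟮((ω : F) ^ 3)⟯
    have h1 := orderOf_dvd_of_adjoin (p := p) (a := (ω : F) ^ 3) (pow_ne_zero _ ω.ne_zero)
    have h2 := two_mul_le_of_adjoin_ne_top h
    have hd0 : 0 < d := Module.finrank_pos
    have hpd : 2 ≤ p ^ d := (Fact.out : p.Prime).two_le.trans (Nat.le_self_pow hd0.ne' p)
    have h3 : orderOf ω ∣ 3 * (p ^ d - 1) := by
      refine orderOf_dvd_of_pow_eq_one ?_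
      have h5 := orderOf_dvd_iff_pow_eq_one.1 h1
      rw [← pow_mul] at h5
      exact Units.ext (by rw [Units.val_pow_eq_pow_val, Units.val_one]; exact h5)
    have h5 : p ^ d * p ^ d ≤ Fintype.card F := by
      rw [card_eq_pow (p := p), ← pow_add]
      exact Nat.pow_le_pow_right (Fact.out : p.Prime).pos (by omega)
    have h6 := Nat.le_of_dvd (by omega) h3
    rw [hω] at h6
    have h7 : p ^ d = 2 := by
      rcases Nat.lt_or_ge (p ^ d) 3 with h | h
      · omega
      · have : 3 * p ^ d ≤ p ^ d * p ^ d := Nat.mul_le_mul_right _ h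
        omega
    rw [h7] at h5 h6
    have h8 : Fintype.card F = p ^ Module.finrank (ZMod p) F := card_eq_pow
    have hp2 : p = 2 := by
      have := Nat.le_self_pow hd0.ne' p
      have := (Fact.out : p.Prime).two_le
      omega
    replace h8 : Fintype.card F = 2 ^ Module.finrank (ZMod p) F := h8.trans (congrArg (· ^ _) hp2)
    have h9 : Module.finrank (ZMod p) F ≤ 2 := by
      by_contra hh
      have : 2 ^ 3 ≤ 2 ^ Module.finrank (ZMod p) F := Nat.pow_le_pow_right (by omega) (by omega)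
      omega
    have : Module.finrank (ZMod p) F = 2 := by omega
    rw [this] at h8
    exact h4 h8
  intro A hA s
  obtain ⟨Q, rfl⟩ := surjective_aeval_of_adjoin hadj s
  induction Q using Polynomial.induction_on' with
  | add Q R hQ hR => rw [map_add]; exact A.add_mem hQ hR
  | monomial n c =>
    rw [aeval_monomial, ← pow_mul, ← ZMod.natCast_zmod_val c, map_natCast, ← nsmul_eq_mul]
    exact A.nsmul_mem (hA n) _

/-- A scaled additive family turns polynomial words into evaluation. -/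
theorem polyWord_of_scale {G : Type*} [Group G] (f : F → G) (hadd : ∀ s t, f (s + t) = f s * f t) {x : G} {a : Fˣ}
    (hx : Sc x f a) (Q : (ZMod p)[X]) : polyWord x (f 1) Q = f (aeval (a : F) Q) := by
  have h0 : f 0 = 1 := by simpa using hadd 0 0
  have hn : ∀ (n : ℕ) (t : F), f t ^ n = f (n • t) := fun n t => by
    induction n with
    | zero => simp [h0]
    | succ n ih => rw [pow_succ, ih, succ_nsmul, hadd]
  have hk : ∀ k, conjPow x (f 1) k = f ((a : F) ^ k) := fun k => by
    rw [conjPow, hx.pow k, mul_one, Units.val_pow_eq_pow_val]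
  have hu : f 1 ^ p = 1 := by
    rw [hn, nsmul_eq_mul, mul_one, ← map_natCast (algebraMap (ZMod p) F), ZMod.natCast_self, map_zero, h0]
  have hc : ∀ k l, Commute (conjPow x (f 1) k) (conjPow x (f 1) l) := fun k l => by
    rw [hk, hk, Commute, SemiconjBy, ← hadd, ← hadd, add_comm]
  induction Q using Polynomial.induction_on' with
  | add Q R hQ hR => rw [polyWord_add hc hu, hQ, hR, map_add, hadd]
  | monomial n c =>
    rw [polyWord_monomial, hk, hn, nsmul_eq_mul, aeval_monomial, ← map_natCast (algebraMap (ZMod p) F),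
      ZMod.natCast_zmod_val]

theorem emb_scale (ω : Fˣ) :
    Sc ((cC : Matrix.SpecialLinearGroup (Fin 3) F) * (emb (hD ω))⁻¹ * cC⁻¹) (fun t => emb (xU t)) ω := fun t => by
  rw [← map_inv, hD_inv, cC_hD]
  exact dD_xU ω t

/-- The generators. -/
def gens (ω : Fˣ) : Fin 4 → Matrix.SpecialLinearGroup (Fin 3) F := ![emb (xU 1), emb (hD ω), emb wW, cC]

/-- The letters. -/
abbrev gu : FreeGroup (Fin 4) := FreeGroup.of 0
/-- The letters. -/
abbrev gh : FreeGroup (Fin 4) := FreeGroup.of 1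
/-- The letters. -/
abbrev gw : FreeGroup (Fin 4) := FreeGroup.of 2
/-- The letters. -/
abbrev gc : FreeGroup (Fin 4) := FreeGroup.of 3
/-- The second torus word. -/
abbrev gx : FreeGroup (Fin 4) := gc * gh⁻¹ * gc⁻¹

theorem core (ω : Fˣ) (hgenω : ∀ t : F, t ≠ 0 → ∃ n : ℕ, t = (ω : F) ^ n) (k : ℕ) (hk : ω ^ k = -1)
    (extra : List (FreeGroup (Fin 4))) (hlen : extra.length ≤ 3)
    (hsatE : ∀ r ∈ extra, FreeGroup.lift (gens ω) r = 1)
    (hcomm : ∀ {G : Type} [Group G] (φ : FreeGroup (Fin 4) →* G), (∀ r ∈ extra, φ r = 1) →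
      Commute (φ gu) (conjPow (φ gx) (φ gu) 1) → polyWord (φ gx) (φ gu) (minpoly (ZMod p) (ω : F)) = 1 →
      ∀ a b, Commute (conjPow (φ gx) (φ gu) a) (conjPow (φ gx) (φ gu) b))
    (hrel : ∀ {G : Type} [Group G] (D : Frame G F) (φ : FreeGroup (Fin 4) →* G), D.Xf 1 = φ gu →
      D.Xf (ω : F) = φ (conjPow gx gu 1) → D.w = φ gw → D.c = φ gc → D.ω = ω →
      (∀ r ∈ extra, φ r = 1) → ∀ s t, D.Rel s t) :
    ∃ rels : Finset (FreeGroup (Fin 4)), rels.card ≤ 14 ∧ gc ^ 3 ∈ rels ∧
      ∃ e : PresentedGroup (↑rels : Set (FreeGroup (Fin 4))) ≃* Matrix.SpecialLinearGroup (Fin 3) F,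
        ∀ i, e (PresentedGroup.of i) = gens ω i := by
  classical
  set m := minpoly (ZMod p) (ω : F) with hm
  let L : List (FreeGroup (Fin 4)) := [gu ^ p,
    gu * conjPow gx gu 1 * (conjPow gx gu 1 * gu)⁻¹,
    polyWord gx gu m,
    gh * gu * gh⁻¹ * (conjPow gx gu 2)⁻¹,
    gw * gu * gw⁻¹ * (gu⁻¹ * gw * gu⁻¹)⁻¹,
    gw * gh * gw⁻¹ * gh,
    gw * gw * (gh ^ k)⁻¹,
    gc ^ 3,
    (gh * gc) ^ 3,
    gh * (gc * gh * gc⁻¹) * ((gc * gh * gc⁻¹) * gh)⁻¹,
    gw * gc * gw⁻¹ * (gh ^ k * gc⁻¹)⁻¹] ++ extra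
  refine ⟨L.toFinset, le_trans (List.toFinset_card_le L) (by simp [L]; omega), by simp [L], ?_⟩
  -- the target
  set g0 := gens ω
  have hu0 : FreeGroup.lift g0 gu = emb (xU (1 : F)) := by simp [g0, gens]
  have hh0 : FreeGroup.lift g0 gh = emb (hD ω) := by simp [g0, gens]
  have hw0 : FreeGroup.lift g0 gw = emb wW := by simp [g0, gens]
  have hc0 : FreeGroup.lift g0 gc = cC := by simp [g0, gens]
  have hx0 : FreeGroup.lift g0 gx = cC * (emb (hD ω))⁻¹ * cC⁻¹ := by simp [g0, gens]
  have haddT : ∀ s t : F, emb (xU (s + t)) = emb (xU s) * emb (xU t) := fun s t => by rw [xU_add, map_mul]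
  have hpwT : ∀ Q : (ZMod p)[X], FreeGroup.lift g0 (polyWord gx gu Q) = emb (xU (aeval (ω : F) Q)) := fun Q => by
    rw [map_polyWord, hu0, hx0]
    exact polyWord_of_scale (fun t => emb (xU t)) haddT (emb_scale ω) Q
  have hk0 : ∀ j, FreeGroup.lift g0 (conjPow gx gu j) = emb (xU ((ω : F) ^ j)) := fun j => by
    rw [map_conjPow, hu0, hx0, conjPow]
    have := (emb_scale (F := F) ω).pow j 1
    rwa [mul_one, Units.val_pow_eq_pow_val] at this
  have hsat : ∀ r ∈ L.toFinset, FreeGroup.lift g0 r = 1 := by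
    intro r hr
    rw [List.mem_toFinset, List.mem_append] at hr
    rcases hr with hr | hr
    swap
    · exact hsatE r hr
    simp only [List.mem_cons, List.not_mem_nil, or_false] at hr
    rcases hr with rfl | rfl | rfl | rfl | rfl | rfl | rfl | rfl | rfl | rfl | rfl
    · rw [map_pow, hu0, ← map_pow, xU_pow, mul_one, ← map_natCast (algebraMap (ZMod p) F), ZMod.natCast_self,
        map_zero, xU_zero, map_one]
    · rw [map_mul, map_inv, map_mul, map_mul, hk0, hu0, ← haddT, ← haddT, add_comm, mul_inv_cancel]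
    · rw [hpwT, hm, minpoly.aeval, xU_zero, map_one]
    · rw [map_mul, map_inv, map_mul, map_mul, map_inv, hh0, hu0, hk0, ← map_inv, ← map_mul, ← map_mul, hD_xU, mul_one,
        mul_inv_cancel]
    · simp only [map_mul, map_inv, hw0, hu0]
      simp only [← map_inv, ← map_mul]
      rw [← map_one (emb (F := F))]
      congr 1
      have := wW_xU (1 : Fˣ)
      simp only [Units.val_one, inv_one, hD_one, mul_one] at this
      rw [this, show xU (-1 : F) = (xU (1 : F))⁻¹ by
        apply eq_inv_of_mul_eq_one_left; rw [← xU_add, neg_add_cancel, xU_zero], mul_inv_cancel]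
    · rw [map_mul, map_mul, map_mul, map_inv, hw0, hh0, ← map_inv, ← map_mul, ← map_mul, ← map_mul, wW_hD,
        inv_mul_cancel, map_one]
    · rw [map_mul, map_inv, map_mul, map_pow, hw0, hh0, ← map_pow, ← map_mul, wW_sq, hD_pow, hk, mul_inv_cancel]
    · rw [map_pow, hc0, cC_pow]
    · rw [map_pow, map_mul, hh0, hc0, hD_cC_pow]
    · simp only [map_mul, map_inv, hc0, hh0, cC_hD, (hD_dD ω ω).eq, mul_inv_cancel]
    · rw [map_mul, map_inv, map_mul, map_mul, map_mul, map_inv, map_inv, map_pow, hw0, hc0, hh0, ← map_pow (emb (F := F)),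
        hD_pow, hk, wW_cC, mul_inv_cancel]
  have hgenT : Subgroup.closure (Set.range g0) = ⊤ := by
    rw [eq_top_iff, ← closure_gen (F := F), Subgroup.closure_le]
    have hmem : ∀ r, FreeGroup.lift g0 r ∈ Subgroup.closure (Set.range g0) := fun r => by
      rw [← FreeGroup.range_lift_eq_closure]; exact ⟨r, rfl⟩
    rintro _ (⟨t, rfl⟩ | rfl | rfl)
    · by_cases ht : t = 0
      · simp [ht, xU_zero]
      · obtain ⟨n, rfl⟩ := hgenω t ht
        show emb (xU ((ω : F) ^ n)) ∈ Subgroup.closure (Set.range g0)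
        rw [← hk0]
        exact hmem _
    · rw [SetLike.mem_coe, ← hw0]; exact hmem _
    · rw [SetLike.mem_coe, ← hc0]; exact hmem _
  -- the presented group
  set φ : FreeGroup (Fin 4) →* PresentedGroup (↑L.toFinset : Set (FreeGroup (Fin 4))) := PresentedGroup.mk _
  have hrel' : ∀ r ∈ L, φ r = 1 := fun r hr =>
    PresentedGroup.one_of_mem (Finset.mem_coe.2 (List.mem_toFinset.2 hr))
  have eE : ∀ r ∈ extra, φ r = 1 := fun r hr => hrel' r (List.mem_append_right _ hr)
  have e1 := hrel' (gu ^ p) (by simp [L])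
  have e2 := hrel' (gu * conjPow gx gu 1 * (conjPow gx gu 1 * gu)⁻¹) (by simp [L])
  have e3 := hrel' (polyWord gx gu m) (by simp [L])
  have e4 := hrel' (gh * gu * gh⁻¹ * (conjPow gx gu 2)⁻¹) (by simp [L])
  have e5 := hrel' (gw * gu * gw⁻¹ * (gu⁻¹ * gw * gu⁻¹)⁻¹) (by simp [L])
  have e6 := hrel' (gw * gh * gw⁻¹ * gh) (by simp [L])
  have e7 := hrel' (gw * gw * (gh ^ k)⁻¹) (by simp [L])
  have e8 := hrel' (gc ^ 3) (by simp [L])
  have e9 := hrel' ((gh * gc) ^ 3) (by simp [L])
  have e10 := hrel' (gh * (gc * gh * gc⁻¹) * ((gc * gh * gc⁻¹) * gh)⁻¹) (by simp [L])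
  have e11 := hrel' (gw * gc * gw⁻¹ * (gh ^ k * gc⁻¹)⁻¹) (by simp [L])
  simp only [map_mul, map_inv, map_pow, map_conjPow, map_polyWord, mul_inv_eq_one] at e1 e2 e3 e4 e5 e7 e8 e9 e10 e11
  rw [map_mul, map_mul, map_mul, map_inv, mul_eq_one_iff_eq_inv] at e6
  have hxdef : φ gx = φ gc * (φ gh)⁻¹ * (φ gc)⁻¹ := by simp only [map_mul, map_inv]
  have hc := hcomm φ eE (hxdef ▸ e2) (hxdef ▸ e3)
  set U := φ gu
  set H := φ gh
  set W := φ gw
  set C := φ gc
  set X0 := C * H⁻¹ * C⁻¹ with hX0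
  rw [hxdef] at hc
  have hsurj : Function.Surjective (aeval (ω : F) : (ZMod p)[X] → F) := fun t => by
    by_cases ht : t = 0
    · exact ⟨0, by simp [ht]⟩
    · obtain ⟨n, rfl⟩ := hgenω t ht
      exact ⟨X ^ n, by simp⟩
  obtain ⟨Xf, hadd, hXf⟩ := exists_fieldHom hc e1 hsurj e3
  have hU1 : Xf 1 = U := by
    have := hXf 1
    rw [polyWord_one, map_one] at this
    exact this.symm
  have hx : Sc X0 Xf ω := by
    intro t
    obtain ⟨Q, rfl⟩ := hsurj t
    rw [← hXf]
    have := polyWord_mul_X_pow hc e1 1 Q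
    rw [pow_one, pow_one, hXf (X * Q), map_mul, aeval_X] at this
    exact this
  have hHX : Commute H X0 := by
    have : X0 = (C * H * C⁻¹)⁻¹ := by rw [hX0]; group
    rw [this]
    exact (show Commute H (C * H * C⁻¹) from e10).inv_right
  have hh : Sc H Xf (ω ^ 2) := by
    intro t
    obtain ⟨Q, rfl⟩ := hsurj t
    rw [← hXf, polyWord_conj hc e1 hHX (P := X ^ 2) (by rw [polyWord_X_pow]; exact e4), hXf, map_mul, map_pow, aeval_X,
      Units.val_pow_eq_pow_val]
  have hneg : Xf (-1) = U⁻¹ := by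
    apply eq_inv_of_mul_eq_one_left
    rw [← hU1, ← hadd, neg_add_cancel]
    simpa using hadd 0 0
  let D : Frame (PresentedGroup (↑L.toFinset : Set (FreeGroup (Fin 4)))) F :=
    { Xf := Xf, h := H, w := W, c := C, ω := ω, k := k, hadd := hadd, hx := hx, hh := hh
      hwX1 := by rw [hU1, hneg]; exact e5
      hwh := e6, hww := e7, hc3 := e8, hhc := e9, hcomm := e10, hwcw := e11, hωk := hk, hgenω := hgenω
      hgen := by
        rw [eq_top_iff, ← PresentedGroup.closure_range_of, Subgroup.closure_le]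
        rintro _ ⟨i, rfl⟩
        apply Subgroup.subset_closure
        fin_cases i
        · exact Or.inl ⟨1, hU1⟩
        · exact Or.inr (Or.inl rfl)
        · exact Or.inr (Or.inr (Or.inl rfl))
        · exact Or.inr (Or.inr (Or.inr rfl)) }
  have hXω : D.Xf (ω : F) = φ (conjPow gx gu 1) := by
    rw [map_conjPow, hxdef]
    show Xf (ω : F) = conjPow X0 U 1
    rw [← polyWord_X (p := p), hXf, aeval_X]
  obtain ⟨hfin, hcard⟩ := D.bound (hrel D φ hU1 hXω rfl rfl rfl eE)
  let ψ := PresentedGroup.toGroup (f := g0) (fun r hr => hsat r hr)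
  have hs : Function.Surjective ψ := by
    rw [← MonoidHom.range_eq_top, ← top_le_iff, ← hgenT, Subgroup.closure_le]
    rintro _ ⟨i, rfl⟩
    exact ⟨PresentedGroup.of i, PresentedGroup.toGroup.of _⟩
  refine ⟨MulEquiv.ofBijective ψ
    ((Nat.bijective_iff_surjective_and_card ψ).2 ⟨hs, le_antisymm ?_ (Nat.card_le_card_of_surjective ψ hs)⟩),
    fun i => PresentedGroup.toGroup.of (fun r hr => hsat r hr)⟩
  refine hcard.trans (le_of_eq ?_)
  rw [card_SL_three]
  obtain ⟨q, hq⟩ : ∃ q, Fintype.card F = q + 1 := ⟨Fintype.card F - 1, by have := Fintype.card_pos (α := F); omega⟩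
  rw [hq, Nat.add_sub_cancel, show (q + 1) ^ 2 - 1 = q * (q + 2) by
    rw [Nat.sub_eq_iff_eq_add (Nat.one_le_pow _ _ (by omega))]; ring,
    show (q + 1) ^ 3 - 1 = q * (q ^ 2 + 3 * q + 3) by
    rw [Nat.sub_eq_iff_eq_add (Nat.one_le_pow _ _ (by omega))]; ring]
  ring

theorem exists_presentation_gens (p : ℕ) [Fact p.Prime] [Algebra (ZMod p) F] :
    ∃ ω : Fˣ, orderOf ω = Fintype.card F - 1 ∧ (∀ t : F, t ≠ 0 → ∃ n : ℕ, t = (ω : F) ^ n) ∧
    ∃ rels : Finset (FreeGroup (Fin 4)), rels.card ≤ 14 ∧ gc ^ 3 ∈ rels ∧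
      ∃ e : PresentedGroup (↑rels : Set (FreeGroup (Fin 4))) ≃* Matrix.SpecialLinearGroup (Fin 3) F,
        ∀ i, e (PresentedGroup.of i) = gens ω i := by
  obtain ⟨ω, hω, hgenω⟩ := exists_generator (F := F)
  refine ⟨ω, hω, hgenω, ?_⟩
  obtain ⟨k, hk'⟩ := hgenω (-1) (neg_ne_zero.2 one_ne_zero)
  have hk : ω ^ k = -1 := Units.ext (by rw [Units.val_pow_eq_pow_val, ← hk', Units.val_neg, Units.val_one])
  have hint : IsIntegral (ZMod p) (ω : F) := Algebra.IsIntegral.isIntegral _
  let z1 : FreeGroup (Fin 4) := gw * (gc * gu * gc⁻¹) * gw⁻¹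
  let v1 : FreeGroup (Fin 4) := gc * gu * gc⁻¹
  let uω : FreeGroup (Fin 4) := conjPow gx gu 1
  let zω : FreeGroup (Fin 4) := gw * (gc * uω * gc⁻¹) * gw⁻¹
  -- values in the target
  have hu0 : FreeGroup.lift (gens (F := F) ω) gu = emb (xU (1 : F)) := by simp [gens]
  have hx0 : FreeGroup.lift (gens (F := F) ω) gx = cC * (emb (hD ω))⁻¹ * cC⁻¹ := by simp [gens]
  have hv1 : FreeGroup.lift (gens (F := F) ω) v1 = x12 (1 : F) := by simp [v1, gens, cC_xU]
  have hz1 : FreeGroup.lift (gens (F := F) ω) z1 = x02 (1 : F) := by simp [z1, gens, cC_xU, wW_x12]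
  have hω1 : FreeGroup.lift (gens (F := F) ω) uω = emb (xU (ω : F)) := by
    rw [map_conjPow, hu0, hx0, conjPow, pow_one]
    have := emb_scale ω (1 : F)
    rwa [mul_one] at this
  have hzω : FreeGroup.lift (gens (F := F) ω) zω = x02 (ω : F) := by
    simp only [zω, map_mul, map_inv, hω1]
    simp [gens, cC_xU, wW_x12]
  by_cases h4 : Fintype.card F = 4
  · refine core (p := p) ω hgenω k hk [uω * z1 * (z1 * uω)⁻¹, gu * v1 * (z1 * v1 * gu)⁻¹,
      uω * v1 * (zω * v1 * uω)⁻¹] (by simp) ?_ ?_ ?_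
    · intro r hr
      simp only [List.mem_cons, List.not_mem_nil, or_false] at hr
      rcases hr with rfl | rfl | rfl <;>
        rw [map_mul, map_inv, mul_inv_eq_one] <;> simp only [map_mul, hu0, hv1, hz1, hω1, hzω]
      · exact (xU_x02 _ _).eq
      · rw [xU_x12, mul_one]
      · rw [xU_x12, mul_one]
    · intro G _ φ _ h01 hm
      refine commute_small _ (minpoly.monic hint) ?_ (minpoly.natDegree_pos hint) hm h01
      refine (minpoly.natDegree_le _).trans ?_
      have := card_eq_pow (p := p) (F := F)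
      by_contra hh
      have : 2 ^ 3 ≤ p ^ Module.finrank (ZMod p) F :=
        (Nat.pow_le_pow_left (Fact.out : p.Prime).two_le 3).trans
          (Nat.pow_le_pow_right (Fact.out : p.Prime).pos (by omega))
      omega
    · intro G _ D φ hu hω' hw hc hDω hE
      have a := hE (uω * z1 * (z1 * uω)⁻¹) (by simp)
      have b := hE (gu * v1 * (z1 * v1 * gu)⁻¹) (by simp)
      have b' := hE (uω * v1 * (zω * v1 * uω)⁻¹) (by simp)
      simp only [zω, z1, v1, uω, map_mul, map_inv, mul_inv_eq_one, ← hu, ← hω', ← hw, ← hc] at a b b'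
      subst hDω
      refine D.rel_of_seeds_four h4 ?_ ?_ ?_
      · exact a
      · simpa [Frame.Rel, Frame.z, Frame.v] using b
      · simpa [Frame.Rel, Frame.z, Frame.v] using b'
  · -- the third relation
    obtain ⟨r3, hr3, hr3'⟩ : ∃ r3 : FreeGroup (Fin 4), FreeGroup.lift (gens (F := F) ω) r3 = 1 ∧
        ∀ {G : Type} [Group G] (φ : FreeGroup (Fin 4) →* G), φ r3 = 1 →
        Commute (φ gu) (conjPow (φ gx) (φ gu) 1) → polyWord (φ gx) (φ gu) (minpoly (ZMod p) (ω : F)) = 1 →
        ∀ a b, Commute (conjPow (φ gx) (φ gu) a) (conjPow (φ gx) (φ gu) b) := by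
      by_cases h1 : (1 : F) + (ω : F) = 0
      · refine ⟨1, map_one _, fun φ _ h01 hm => commute_small _ (minpoly.monic hint) ?_ (minpoly.natDegree_pos hint) hm h01⟩
        rw [show (ω : F) = algebraMap (ZMod p) F (-1) by
          rw [map_neg, map_one]; exact eq_neg_of_add_eq_zero_right h1, minpoly.eq_X_sub_C, natDegree_X_sub_C]
        omega
      · obtain ⟨j, hj⟩ := hgenω _ h1
        refine ⟨gx ^ j * gu * (gx ^ j)⁻¹ * (gu * conjPow gx gu 1)⁻¹, ?_, ?_⟩
        · rw [map_mul, map_inv, mul_inv_eq_one, map_mul, map_mul, map_mul, map_inv, map_pow,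
            show FreeGroup.lift (gens (F := F) ω) (conjPow gx gu 1) = _ from hω1, hu0, hx0, ← map_mul emb (xU 1), ← xU_add, hj]
          have := (emb_scale (F := F) ω).pow j 1
          rwa [mul_one, Units.val_pow_eq_pow_val] at this
        · intro G _ φ h3 h01 _
          simp only [map_mul, map_inv, map_pow, map_conjPow, mul_inv_eq_one] at h3 h01 ⊢
          exact commute_conjPow_of_crw ((Commute.refl _).pow_right j) h01 h3
    refine core (p := p) ω hgenω k hk [r3, gu * z1 * (z1 * gu)⁻¹, gu * v1 * (z1 * v1 * gu)⁻¹] (by simp) ?_ ?_ ?_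
    · intro r hr
      simp only [List.mem_cons, List.not_mem_nil, or_false] at hr
      rcases hr with rfl | rfl | rfl
      · exact hr3
      all_goals rw [map_mul, map_inv, mul_inv_eq_one]; simp only [map_mul, hu0, hv1, hz1]
      · exact (xU_x02 _ _).eq
      · rw [xU_x12, mul_one]
    · exact fun φ hE => hr3' φ (hE r3 (by simp))
    · intro G _ D φ hu hω' hw hc hDω hE
      have a := hE (gu * z1 * (z1 * gu)⁻¹) (by simp)
      have b := hE (gu * v1 * (z1 * v1 * gu)⁻¹) (by simp)
      simp only [z1, v1, map_mul, map_inv, mul_inv_eq_one, ← hu, ← hw, ← hc] at a b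
      subst hDω
      refine D.rel_of_seeds (cubesSpan p _ hω h4) ?_ ?_
      · exact a
      · simpa [Frame.Rel, Frame.z, Frame.v] using b

theorem exists_presentation (p : ℕ) [Fact p.Prime] [Algebra (ZMod p) F] :
    ∃ rels : Finset (FreeGroup (Fin 4)), rels.card ≤ 14 ∧
      Nonempty (PresentedGroup (↑rels : Set (FreeGroup (Fin 4))) ≃* Matrix.SpecialLinearGroup (Fin 3) F) := by
  obtain ⟨ω, -, -, rels, hc, -, e, -⟩ := exists_presentation_gens (F := F) p
  exact ⟨rels, hc, ⟨e⟩⟩

end CfsgLib.SL3Pres
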