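import Cfsg.Agent.SL3Pres.Frame

/-!
# The commutator formula from its instances at `1`
-/

set_option autoImplicit false

namespace CfsgLib.SL3Pres

variable {G F : Type*} [Group G] [Field F] [Fintype F]

theorem Sc.zero {g : G} {f : F → G} {a : Fˣ} (h : Sc g f a) (h0 : f 0 = 1) : g * f 0 * g⁻¹ = 1 := by
  rw [h, mul_zero, h0]

namespace Frame

variable (D : Frame G F)

omit [Fintype F] in
theorem v_add (s t : F) : D.v (s + t) = D.v s * D.v t := by simp only [v, D.hadd]; group

omit [Fintype F] in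
theorem z_add (s t : F) : D.z (s + t) = D.z s * D.z t := by simp only [z, D.v_add]; group

theorem v_zero : D.v 0 = 1 := by simp [v, D.Xf_zero]

theorem z_zero : D.z 0 = 1 := by simp [z, D.v_zero]

theorem v_neg (t : F) : D.v (-t) = (D.v t)⁻¹ := by simp only [v, D.Xf_neg]; group

theorem z_neg (t : F) : D.z (-t) = (D.z t)⁻¹ := by simp only [z, D.v_neg]; group

theorem v_comm (s t : F) : Commute (D.v s) (D.v t) := by
  rw [Commute, SemiconjBy, ← D.v_add, ← D.v_add, add_comm]

theorem z_comm (s t : F) : Commute (D.z s) (D.z t) := by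
  rw [Commute, SemiconjBy, ← D.z_add, ← D.z_add, add_comm]

/-- The commutator formula at `(s, t)`. -/
def Rel (s t : F) : Prop := D.Xf s * D.v t = D.z (s * t) * D.v t * D.Xf s

theorem rel_zero (t : F) : D.Rel 0 t := by simp [Rel, D.Xf_zero, D.z_zero]

theorem Rel.add {D : Frame G F} {s s' t : F} (h : D.Rel s t) (h' : D.Rel s' t)
    (hc : Commute (D.Xf s') (D.z (s * t))) : D.Rel (s' + s) t := by
  unfold Rel at *
  calc D.Xf (s' + s) * D.v t = D.Xf s' * (D.Xf s * D.v t) := by rw [D.hadd, mul_assoc]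
    _ = (D.Xf s' * D.z (s * t)) * D.v t * D.Xf s := by rw [h]; group
    _ = D.z (s * t) * (D.Xf s' * D.v t) * D.Xf s := by rw [hc.eq]; group
    _ = (D.z (s * t) * D.z (s' * t)) * D.v t * (D.Xf s' * D.Xf s) := by rw [h']; group
    _ = _ := by rw [← D.z_add, ← D.hadd]; ring_nf

theorem Rel.conj {D : Frame G F} {s t : F} (hR : D.Rel s t) {g : G} {a b : Fˣ} (ha : Sc g D.Xf a)
    (hb : Sc g D.v b) (hab : Sc g D.z (a * b)) : D.Rel ((a : F) * s) ((b : F) * t) := by
  unfold Rel at *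
  rw [← ha, ← hb, show (a : F) * s * ((b : F) * t) = ((a * b : Fˣ) : F) * (s * t) by push_cast; ring, ← hab]
  calc g * D.Xf s * g⁻¹ * (g * D.v t * g⁻¹) = g * (D.Xf s * D.v t) * g⁻¹ := by group
    _ = _ := by rw [hR]; group

/-- The formula at `t = 1` gives it everywhere. -/
theorem rel_all (h1 : ∀ s, D.Rel s 1) (s t : F) : D.Rel s t := by
  rcases eq_or_ne t 0 with rfl | ht
  · simp [Rel, D.v_zero, D.z_zero]
  obtain ⟨n, rfl⟩ := D.hgenω t⁻¹ (inv_ne_zero ht) |>.imp fun n h => (inv_inv t).symm.trans (congrArg (·⁻¹) h)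
  have hs : s = ((((D.ω ^ 2) ^ n : Fˣ)) : F) * ((((((D.ω ^ 2) ^ n : Fˣ))⁻¹ : Fˣ) : F) * s) := by
    rw [← mul_assoc, Units.mul_inv, one_mul]
  have := Rel.conj (h1 ((((((D.ω ^ 2) ^ n : Fˣ))⁻¹ : Fˣ) : F) * s)) (D.hh.pow n) (D.hv_h.pow n)
    (by
      have := D.hz_h.pow n
      rwa [show D.ω = D.ω ^ 2 * D.ω⁻¹ by group, mul_pow] at this)
  rw [← hs, mul_one, inv_pow, Units.val_inv_eq_inv_val, Units.val_pow_eq_pow_val] at this
  exact this

/-- The additive span of the cubes. -/
def CubesSpan (ω : Fˣ) : Prop := ∀ A : AddSubgroup F, (∀ i : ℕ, (ω : F) ^ (3 * i) ∈ A) → ∀ s, s ∈ A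

theorem uz_all (hsp : CubesSpan D.ω) (sa : Commute (D.Xf 1) (D.z 1)) (s r : F) :
    Commute (D.Xf s) (D.z r) := by
  have key : ∀ s, Commute (D.Xf s) (D.z 1) := by
    intro s
    let A : AddSubgroup F :=
      { carrier := {s | Commute (D.Xf s) (D.z 1)}
        zero_mem' := by simp [D.Xf_zero]
        add_mem' := fun {a b} ha hb => by
          simp only [Set.mem_ofPred_eq] at *
          rw [D.hadd]; exact ha.mul_left hb
        neg_mem' := fun {a} ha => by
          simp only [Set.mem_ofPred_eq] at *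
          rw [D.Xf_neg]; exact ha.inv_left }
    refine hsp A (fun i => ?_) s
    show Commute (D.Xf _) (D.z 1)
    have h1 := (D.hh.mul D.hx').pow i 1
    have h2 := (D.hz_h.mul D.hz_x).pow i 1
    rw [mul_inv_cancel, one_pow, Units.val_one, one_mul] at h2
    rw [mul_one, ← pow_succ, ← pow_mul, Units.val_pow_eq_pow_val] at h1
    rw [← h1, ← h2]
    exact (Commute.conj_iff _).2 sa
  rcases eq_or_ne r 0 with rfl | hr
  · simp [D.z_zero]
  obtain ⟨n, rfl⟩ := D.hgenω r hr
  have h1 := (D.hh.pow n) ((((((D.ω ^ 2) ^ n : Fˣ))⁻¹ : Fˣ) : F) * s)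
  have h2 := (D.hz_h.pow n) 1
  rw [← mul_assoc, Units.mul_inv, one_mul] at h1
  rw [mul_one, Units.val_pow_eq_pow_val] at h2
  rw [← h1, ← h2]
  exact (Commute.conj_iff _).2 (key _)

theorem rel_of_seeds (hsp : CubesSpan D.ω) (sa : Commute (D.Xf 1) (D.z 1)) (sb : D.Rel 1 1) :
    ∀ s t, D.Rel s t := by
  refine D.rel_all fun s => ?_
  let A : AddSubgroup F :=
    { carrier := {s | D.Rel s 1}
      zero_mem' := D.rel_zero 1
      add_mem' := fun {a b} ha hb => Rel.add hb ha (D.uz_all hsp sa _ _)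
      neg_mem' := fun {a} ha => by
        simp only [Set.mem_ofPred_eq, Rel, mul_one] at *
        rw [D.Xf_neg, D.z_neg, inv_mul_eq_iff_eq_mul, ← mul_assoc, ← mul_assoc,
          (((D.uz_all hsp sa a a).inv_right)).eq, mul_assoc _ (D.Xf a) (D.v 1), ha]
        group }
  refine hsp A (fun i => ?_) s
  show D.Rel _ 1
  have hu := ((D.hh.mul D.hh).mul D.hx'.inv).pow i
  have hv := ((D.hv_h.mul D.hv_h).mul D.hv_x.inv).pow i
  rw [inv_inv, show D.ω⁻¹ * D.ω⁻¹ * D.ω ^ 2 = 1 by group, one_pow] at hv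
  have hz := ((D.hz_h.mul D.hz_h).mul D.hz_x.inv).pow i
  rw [inv_inv] at hz
  have := Rel.conj sb hu hv (by
    rwa [mul_one, show D.ω ^ 2 * D.ω ^ 2 * D.ω⁻¹ = D.ω * D.ω * D.ω by rw [← pow_three']; group])
  rw [Units.val_one, mul_one, mul_one, show D.ω ^ 2 * D.ω ^ 2 * D.ω⁻¹ = D.ω ^ 3 by group, ← pow_mul,
    Units.val_pow_eq_pow_val] at this
  exact this

/-- Four elements: three seeds. -/
theorem rel_of_seeds_four (hF : Fintype.card F = 4) (sa : Commute (D.Xf (D.ω : F)) (D.z 1))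
    (sb : D.Rel 1 1) (sb' : D.Rel (D.ω : F) 1) : ∀ s t, D.Rel s t := by
  refine D.rel_all fun s => ?_
  rcases eq_or_ne s 0 with rfl | hs
  · exact D.rel_zero 1
  obtain ⟨n, rfl⟩ := D.hgenω s hs
  have h3 : (D.ω : F) ^ 3 = 1 := by
    have := congrArg Units.val D.ω_pow_card
    rwa [hF, Units.val_pow_eq_pow_val, Units.val_one] at this
  rw [show n = 3 * (n / 3) + n % 3 from (Nat.div_add_mod n 3).symm, pow_add, pow_mul, h3, one_pow, one_mul]
  rcases (show n % 3 = 0 ∨ n % 3 = 1 ∨ n % 3 = 2 by omega) with e | e | e <;> rw [e]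
  · simpa using sb
  · simpa using sb'
  · by_cases hw : (D.ω : F) = 1
    · rw [hw, one_pow]; exact sb
    · have e2 : (D.ω : F) ^ 2 = (D.ω : F) + 1 := by
        have h2 : (2 : F) = 0 := by
          have h4 : ((Fintype.card F : ℕ) : F) = 0 := by simp
          rw [hF] at h4
          have : (2 : F) * 2 = 0 := by rw [← h4]; norm_num
          exact pow_eq_zero_iff two_ne_zero |>.1 (by rw [sq]; exact this)
        have h5 : ((D.ω : F) - 1) * ((D.ω : F) ^ 2 + (D.ω : F) + 1) = 0 := by linear_combination h3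
        rcases mul_eq_zero.1 h5 with h | h
        · exact absurd (sub_eq_zero.1 h) hw
        · linear_combination h - ((D.ω : F) + 1) * h2
      rw [e2]
      exact Rel.add sb sb' (by rwa [mul_one])

/-! ### Consequences of the formula everywhere -/

theorem uz_of_rel (hb : ∀ s t, D.Rel s t) (s r : F) : Commute (D.Xf s) (D.z r) := by
  have h1 := hb (s + r) 1
  have h2 := hb r 1
  have h3 := hb s 1
  unfold Rel at *
  simp only [mul_one] at *
  rw [D.hadd, mul_assoc, h2, D.z_add] at h1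
  have e : D.Xf s * D.z r * D.v 1 * D.Xf r = D.z r * (D.Xf s * D.v 1) * D.Xf r := by
    rw [h3, show D.Xf s * D.z r * D.v 1 * D.Xf r = D.Xf s * (D.z r * D.v 1 * D.Xf r) by group, h1,
      (D.z_comm s r).eq]
    group
  exact mul_right_cancel (mul_right_cancel (e.trans (by group)))

theorem vz_of_rel (hb : ∀ s t, D.Rel s t) (t r : F) : Commute (D.v t) (D.z r) := by
  have gen : ∀ a b : F, Commute (D.v a) (D.z b) := by
    intro r t
    have h1 := hb 1 (r + t)
    have h2 := hb 1 t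
    have h3 := hb 1 r
    unfold Rel at *
    simp only [one_mul] at *
    rw [D.v_add, ← mul_assoc, h3, mul_assoc, h2, D.z_add] at h1
    have e : D.z r * D.v r * D.z t * (D.v t * D.Xf 1) = D.z r * D.z t * D.v r * (D.v t * D.Xf 1) := by
      calc _ = D.z r * D.v r * (D.z t * D.v t * D.Xf 1) := by group
        _ = _ := by rw [h1]; group
    have := mul_right_cancel e
    rw [mul_assoc, mul_assoc] at this
    exact mul_left_cancel this
  exact gen t r

end Frame

end CfsgLib.SL3Pres
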